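import Groth.Agent.Lib.GrpdQuot.Points
import Groth.Agent.Lib.GrpSchField.Shear
import Mathlib.AlgebraicGeometry.Morphisms.QuasiFinite
import Mathlib.AlgebraicGeometry.Morphisms.UniversallyInjective
import Mathlib.AlgebraicGeometry.Morphisms.FiniteType

/-!
# The groupoid of an action; quasi-finite stabilizers give quasi-finite `j`
-/

set_option autoImplicit false
set_option linter.all false
set_option backward.isDefEq.respectTransparency false

universe u

open CategoryTheory CategoryTheory.Limits MonoidalCategory CartesianMonoidalCategory MonObj GrpObj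
open AlgebraicGeometry

noncomputable section

namespace GrothLib.QSecGen13

open GrothLib.GrpSchField (act_one act_mul cmp comp_cmp cmp_congr)

section Stab

variable {S : Scheme.{u}} (G : Grpd.GroupoidScheme S)

/-- Quasi-finite stabilizers give a quasi-finite `j`. -/
theorem locallyQuasiFinite_j (hqf : LocallyQuasiFinite G.stabilizerToU) [LocallyOfFiniteType G.j]
    [QuasiCompact G.j] : LocallyQuasiFinite G.j := by
  let a := pullback.fst G.j G.j
  let b := pullback.snd G.j G.j
  have ht : a ≫ G.t = b ≫ G.t := by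
    have h1 := congrArg (· ≫ pullback.fst G.pU G.pU) (pullback.condition (f := G.j) (g := G.j))
    simpa [a, b, Grpd.GroupoidScheme.j] using h1
  have hs : a ≫ G.s = b ≫ G.s := by
    have h1 := congrArg (· ≫ pullback.snd G.pU G.pU) (pullback.condition (f := G.j) (g := G.j))
    simpa [a, b, Grpd.GroupoidScheme.j] using h1
  have hh : (a ≫ G.i) ≫ G.s = b ≫ G.t := by rw [Category.assoc, G.i_s, ht]
  let τ := cmp G (a ≫ G.i) b hh
  have hτt : τ ≫ G.t = a ≫ G.s := by
    rw [GrpdQuot.cmp_t, Category.assoc, G.i_t]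
  have hτs : τ ≫ G.s = a ≫ G.s := by rw [GrpdQuot.cmp_s, hs]
  let ε : pullback G.j G.j ⟶ G.stabilizer := pullback.lift τ (a ≫ G.s) (by
    apply pullback.hom_ext <;>
      simp only [Grpd.GroupoidScheme.j, Grpd.GroupoidScheme.diag, Category.assoc, pullback.lift_fst,
        pullback.lift_snd, Category.comp_id, hτt, hτs])
  let Φ : pullback G.j G.j ⟶ pullback G.s G.stabilizerToU :=
    pullback.lift a ε (pullback.lift_snd _ _ _).symm
  haveI : Mono Φ := ⟨fun {T} g g' hg => by
    have h1 : g ≫ a = g' ≫ a := by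
      have := congrArg (· ≫ pullback.fst _ _) hg
      simpa [Φ] using this
    have h2 : g ≫ τ = g' ≫ τ := by
      have := congrArg (· ≫ pullback.snd G.s G.stabilizerToU ≫ pullback.fst G.j G.diag) hg
      simpa [Φ, ε] using this
    have key : ∀ k : T ⟶ pullback G.j G.j, ∃ h', k ≫ b = cmp G (k ≫ a) (k ≫ τ) h' := fun k => by
      have e : k ≫ τ = cmp G ((k ≫ a) ≫ G.i) (k ≫ b) (by
          simp only [Category.assoc, G.i_s, ht]) :=
        (comp_cmp G k _ _ hh).trans (cmp_congr G _ (Category.assoc _ _ _).symm rfl)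
      refine ⟨by rw [Category.assoc, Category.assoc, hτt], ?_⟩
      refine (GrpdQuot.cmp_inv_left G (k ≫ a) (k ≫ b) _ ?_).symm.trans (cmp_congr G _ rfl e.symm)
      rw [← e, Category.assoc, Category.assoc, hτt]
    refine pullback.hom_ext h1 ?_
    obtain ⟨_, e⟩ := key g
    obtain ⟨_, e'⟩ := key g'
    exact e.trans ((cmp_congr G _ h1 h2).trans e'.symm)⟩
  haveI := hqf
  haveI : QuasiCompact G.stabilizerToU := inferInstanceAs (QuasiCompact (pullback.snd G.j G.diag))
  refine LocallyQuasiFinite.of_finite_preimage_singleton _ fun x => ?_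
  rcases (G.j ⁻¹' {x}).eq_empty_or_nonempty with h | ⟨r, hr⟩
  · rw [h]; exact Set.finite_empty
  have hfin : (pullback.fst G.j G.j ⁻¹' {r}).Finite := by
    refine ((((pullback.fst G.s G.stabilizerToU).finite_preimage_singleton r)).preimage
      Φ.injective.injOn).subset fun z hz => ?_
    show pullback.fst G.s G.stabilizerToU (Φ z) = r
    rw [← Scheme.Hom.comp_apply, pullback.lift_fst]
    exact hz
  refine (hfin.image (pullback.snd G.j G.j)).subset fun r' hr' => ?_
  obtain ⟨z, hz₁, hz₂⟩ := Scheme.Pullback.exists_preimage_pullback r r'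
    ((Set.mem_singleton_iff.1 hr).trans (Set.mem_singleton_iff.1 hr').symm)
  exact ⟨z, hz₁, hz₂⟩

end Stab

section Act

variable {S : Scheme.{u}} {G X : Over S} [GrpObj G] (a : AlgGrp.Action G X)

/-- Multiplication on the arrows of an action groupoid. -/
def actMul {T : Over S} (P Q : T ⟶ G ⊗ X) : T ⟶ G ⊗ X :=
  lift ((P ≫ fst G X) * (Q ≫ fst G X)) (Q ≫ snd G X)

theorem comp_actMul {T T' : Over S} (k : T' ⟶ T) (P Q : T ⟶ G ⊗ X) :
    k ≫ actMul P Q = actMul (k ≫ P) (k ≫ Q) := by
  simp only [actMul, comp_lift, MonObj.comp_mul, Category.assoc]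

theorem actMul_act {T : Over S} (P Q : T ⟶ G ⊗ X) (h : P ≫ snd G X = Q ≫ a.act) :
    actMul P Q ≫ a.act = P ≫ a.act := by
  have e : ∀ R : T ⟶ G ⊗ X, lift (R ≫ fst G X) (R ≫ snd G X) = R := fun R => by
    apply CartesianMonoidalCategory.hom_ext <;> simp
  rw [actMul, act_mul, e Q, ← h, e P]

/-- Composition in the action groupoid. -/
def actC : pullback (snd G X).left a.act.left ⟶ (G ⊗ X).left :=
  let Q : Over S := Over.mk (pullback.snd (snd G X).left a.act.left ≫ (G ⊗ X).hom)
  (actMul (T := Q) (Over.homMk (pullback.fst _ _) (by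
      show _ = pullback.snd (snd G X).left a.act.left ≫ (G ⊗ X).hom
      conv_lhs => rw [← Over.w (snd G X), ← Category.assoc, pullback.condition, Category.assoc]
      exact congrArg (_ ≫ ·) (Over.w a.act)))
    (Over.homMk (pullback.snd _ _) rfl)).left

theorem lift_actC {T : Over S} (P Q : T ⟶ G ⊗ X) (h : P.left ≫ (snd G X).left = Q.left ≫ a.act.left) :
    pullback.lift P.left Q.left h ≫ actC a = (actMul P Q).left := by
  let k : T ⟶ Over.mk (pullback.snd (snd G X).left a.act.left ≫ (G ⊗ X).hom) :=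
    Over.homMk (pullback.lift P.left Q.left h) (by
      show pullback.lift _ _ _ ≫ pullback.snd _ _ ≫ _ = _
      rw [pullback.lift_snd_assoc]
      exact Over.w Q)
  show k.left ≫ _ = _
  rw [actC, ← Over.comp_left, comp_actMul]
  congr 2
  · exact Over.OverMorphism.ext (pullback.lift_fst _ _ _)
  · exact Over.OverMorphism.ext (pullback.lift_snd _ _ _)

theorem actC_congr {T : Scheme.{u}} {α α' β β' : T ⟶ (G ⊗ X).left}
    (h : α ≫ (snd G X).left = β ≫ a.act.left) (eα : α = α') (eβ : β = β') :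
    pullback.lift α β h ≫ actC a = pullback.lift α' β' (by rw [← eα, ← eβ, h]) ≫ actC a := by
  subst eα eβ; rfl

theorem hom_eq {T : Scheme.{u}} (α β : T ⟶ (G ⊗ X).left) (h : α ≫ (snd G X).left = β ≫ a.act.left) :
    α ≫ (G ⊗ X).hom = β ≫ (G ⊗ X).hom := by
  rw [← Over.w (snd G X), ← Category.assoc, h, Category.assoc]
  exact congrArg (β ≫ ·) ((Over.w a.act).trans (Over.w (snd G X)).symm)

theorem left_ext {T : Over S} (P Q : T ⟶ G ⊗ X) (h₁ : P ≫ fst G X = Q ≫ fst G X)
    (h₂ : P ≫ snd G X = Q ≫ snd G X) : P.left = Q.left := by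
  rw [CartesianMonoidalCategory.hom_ext P Q h₁ h₂]

variable (G X) in
/-- Identities of the action groupoid. -/
def actE : X.left ⟶ (G ⊗ X).left := (lift (1 : X ⟶ G) (𝟙 X)).left

/-- Inverses of the action groupoid. -/
def actI : (G ⊗ X).left ⟶ (G ⊗ X).left := (lift ((fst G X)⁻¹) a.act).left

/-- The groupoid scheme of an action. -/
def actGroupoid : Grpd.GroupoidScheme S where
  U := X.left
  R := (G ⊗ X).left
  pU := X.hom
  pR := (G ⊗ X).hom
  s := (snd G X).left
  t := a.act.left
  e := actE G X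
  i := actI a
  c := actC a
  s_over := Over.w (snd G X)
  t_over := Over.w a.act
  comp_s {T} α β h := by
    let P : Over.mk (β ≫ (G ⊗ X).hom) ⟶ G ⊗ X := Over.homMk α (hom_eq a α β h)
    let Q : Over.mk (β ≫ (G ⊗ X).hom) ⟶ G ⊗ X := Over.homMk β rfl
    refine (congrArg (· ≫ (snd G X).left) (lift_actC a P Q h)).trans ?_
    exact congrArg (fun f => f.left) (lift_snd _ _ : actMul P Q ≫ snd G X = Q ≫ snd G X)
  comp_t {T} α β h := by
    let P : Over.mk (β ≫ (G ⊗ X).hom) ⟶ G ⊗ X := Over.homMk α (hom_eq a α β h)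
    let Q : Over.mk (β ≫ (G ⊗ X).hom) ⟶ G ⊗ X := Over.homMk β rfl
    refine (congrArg (· ≫ a.act.left) (lift_actC a P Q h)).trans ?_
    exact congrArg (fun f => f.left) (actMul_act a P Q (Over.OverMorphism.ext h))
  assoc {T} α β γ h₁ h₂ := by
    have hb : β ≫ (G ⊗ X).hom = γ ≫ (G ⊗ X).hom := hom_eq a β γ h₂
    have ha : α ≫ (G ⊗ X).hom = γ ≫ (G ⊗ X).hom := (hom_eq a α β h₁).trans hb
    let P : Over.mk (γ ≫ (G ⊗ X).hom) ⟶ G ⊗ X := Over.homMk α ha
    let Q : Over.mk (γ ≫ (G ⊗ X).hom) ⟶ G ⊗ X := Over.homMk β hb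
    let R : Over.mk (γ ≫ (G ⊗ X).hom) ⟶ G ⊗ X := Over.homMk γ rfl
    have eP : pullback.lift α β h₁ ≫ actC a = (actMul P Q).left := lift_actC a P Q h₁
    have eQ : pullback.lift β γ h₂ ≫ actC a = (actMul Q R).left := lift_actC a Q R h₂
    refine (actC_congr a _ eP rfl).trans ((lift_actC a (actMul P Q) R _).trans ?_)
    refine Eq.trans ?_ ((actC_congr a _ rfl eQ).trans (lift_actC a P (actMul Q R) _)).symm
    apply left_ext
    · simp [actMul, _root_.mul_assoc]
    · simp [actMul]
  e_s := congrArg (fun f => f.left) (lift_snd (1 : X ⟶ G) (𝟙 X))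
  e_t := congrArg (fun f => f.left) (act_one a (𝟙 X))
  comp_e {T} α := by
    let P : Over.mk (α ≫ (G ⊗ X).hom) ⟶ G ⊗ X := Over.homMk α rfl
    refine (lift_actC a P (P ≫ snd G X ≫ lift (1 : X ⟶ G) (𝟙 X)) _).trans (left_ext _ P ?_ ?_)
    · simp [actMul, MonObj.comp_one]
    · simp [actMul]
  e_comp {T} α := by
    let P : Over.mk (α ≫ (G ⊗ X).hom) ⟶ G ⊗ X := Over.homMk α rfl
    refine (lift_actC a (P ≫ a.act ≫ lift (1 : X ⟶ G) (𝟙 X)) P _).trans (left_ext _ P ?_ ?_)
    · simp [actMul, MonObj.comp_one]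
    · simp [actMul]
  i_s := congrArg (fun f => f.left) (lift_snd ((fst G X)⁻¹) a.act)
  i_t := by
    refine congrArg (fun f => f.left) (show lift ((fst G X)⁻¹) a.act ≫ a.act = snd G X from ?_)
    have e : lift (fst G X) (snd G X) ≫ a.act = a.act := by rw [lift_fst_snd, Category.id_comp]
    refine (congrArg (fun z => lift (fst G X)⁻¹ z ≫ a.act) e).symm.trans ?_
    rw [← act_mul, inv_mul_cancel, act_one]
  comp_i {T} α := by
    let P : Over.mk (α ≫ (G ⊗ X).hom) ⟶ G ⊗ X := Over.homMk α rfl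
    refine (lift_actC a P (P ≫ lift ((fst G X)⁻¹) a.act) _).trans
      (left_ext _ (P ≫ a.act ≫ lift (1 : X ⟶ G) (𝟙 X)) ?_ ?_)
    · simp [actMul, MonObj.comp_one, GrpObj.comp_inv]
    · simp [actMul]
  i_comp {T} α := by
    let P : Over.mk (α ≫ (G ⊗ X).hom) ⟶ G ⊗ X := Over.homMk α rfl
    refine (lift_actC a (P ≫ lift ((fst G X)⁻¹) a.act) P _).trans
      (left_ext _ (P ≫ snd G X ≫ lift (1 : X ⟶ G) (𝟙 X)) ?_ ?_)
    · simp [actMul, MonObj.comp_one, GrpObj.comp_inv]
    · simp [actMul]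

theorem actGroupoid_j :
    (actGroupoid a).j = (lift a.act (snd G X)).left := by
  refine pullback.hom_ext ?_ ?_
  · rw [Grpd.GroupoidScheme.j, pullback.lift_fst]
    exact (congrArg (fun f => f.left) (lift_fst a.act (snd G X))).symm
  · rw [Grpd.GroupoidScheme.j, pullback.lift_snd]
    exact (congrArg (fun f => f.left) (lift_snd a.act (snd G X))).symm

theorem locallyQuasiFinite_stabilizerToU
    (hF : LocallyQuasiFinite (pullback.snd (lift a.act (snd G X)) (lift (𝟙 X) (𝟙 X))).left) :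
    LocallyQuasiFinite (actGroupoid a).stabilizerToU := by
  have hd : (actGroupoid a).diag = (lift (𝟙 X) (𝟙 X)).left := by
    refine pullback.hom_ext ?_ ?_
    · rw [Grpd.GroupoidScheme.diag, pullback.lift_fst]
      exact (congrArg (fun f => f.left) (lift_fst (𝟙 X) (𝟙 X))).symm
    · rw [Grpd.GroupoidScheme.diag, pullback.lift_snd]
      exact (congrArg (fun f => f.left) (lift_snd (𝟙 X) (𝟙 X))).symm
  have h := (IsPullback.of_hasPullback (lift a.act (snd G X)) (lift (𝟙 X) (𝟙 X))).map (Over.forget S)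
  simp only [Over.forget_map] at h
  rw [← hd, ← actGroupoid_j a] at h
  show LocallyQuasiFinite (pullback.snd (actGroupoid a).j (actGroupoid a).diag)
  rw [← h.isoPullback_inv_snd]
  haveI := hF
  infer_instance

end Act

end GrothLib.QSecGen13
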