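import Groth.Agent.Lib.Snapper.AvoidAll
import Groth.Agent.Lib.Jets.ZeroIdeal
import Groth.Agent.Lib.CartierDescent.Normal

/-!
# Locally principal closed subschemes through a point avoiding finitely many others
-/

set_option autoImplicit false
set_option linter.all false
set_option backward.isDefEq.respectTransparency false

universe u

open CategoryTheory CategoryTheory.Limits AlgebraicGeometry TopologicalSpace Opposite

noncomputable section

namespace GrothLib.QSecGen13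

open GrothLib.Ample (Cocycle)
open GrothLib.CartierDescent (stalkIdeal stalkIdeal_eq)

variable {X : Scheme.{u}}

/-- A section vanishing at `x₀`, nonzero at given points which are not specializations of `x₀`. -/
theorem exists_sect_vanishing [CompactSpace X] (c : Cocycle X) (hc : c.IsAmp) {T : Set X} (hT : T.Finite)
    (x₀ : X) (hx₀ : ∀ η ∈ T, ¬ x₀ ⤳ η) :
    ∃ (m : ℕ) (v : c.sect m ⊤), (∀ η ∈ T, η ∈ c.locus v) ∧ x₀ ∉ c.locus v := by
  classical
  obtain ⟨j₀, hj₀⟩ := Snapper.exists_sect_mem c hc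
  let P := hT.toFinset.filter fun η => ∀ η' ∈ T, η ⤳ η' → η' = η
  have hP : ∀ η, η ∈ T → ∃ π ∈ P, η ⤳ π := by
    intro η hη
    obtain ⟨π, hπ, hmin⟩ := (hT.toFinset.filter fun z => η ⤳ z).exists_min_image
      (fun x => (hT.toFinset.filter fun z => x ⤳ z).card)
      ⟨η, Finset.mem_filter.2 ⟨hT.mem_toFinset.2 hη, specializes_rfl⟩⟩
    obtain ⟨hπT, hηπ⟩ := Finset.mem_filter.1 hπ
    refine ⟨π, Finset.mem_filter.2 ⟨hπT, fun z hz hπz => ?_⟩, hηπ⟩
    by_contra hne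
    have hle := hmin z (Finset.mem_filter.2 ⟨hT.mem_toFinset.2 hz, hηπ.trans hπz⟩)
    refine absurd hle (not_le.2 (Finset.card_lt_card ⟨fun y hy => ?_, fun hsub => hne ?_⟩))
    · simp only [Finset.mem_filter] at hy ⊢
      exact ⟨hy.1, hπz.trans hy.2⟩
    · have := Finset.mem_filter.1 (hsub (Finset.mem_filter.2 ⟨hπT, specializes_rfl⟩))
      exact (this.2.antisymm hπz).eq
  have hPT : ∀ η ∈ P, η ∈ T := fun η hη => hT.mem_toFinset.1 (Finset.mem_filter.1 hη).1
  have hw : ∀ η ∈ P, ∃ (e : ℕ) (w : c.sect (e + 1) ⊤), η ∈ c.locus w ∧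
      (∀ η' ∈ P, η' ≠ η → η' ∉ c.locus w) ∧ x₀ ∉ c.locus w := by
    intro η hη
    let C : Set X := (⋃ η' ∈ P.erase η, closure {η'}) ∪ closure {x₀}
    have hC : IsClosed C := (isClosed_biUnion_finset fun _ _ => isClosed_closure).union isClosed_closure
    have hηC : η ∉ C := by
      rintro (hmem | hmem)
      · obtain ⟨η', hη', hcl⟩ := Set.mem_iUnion₂.1 hmem
        obtain ⟨hne, hη'P⟩ := Finset.mem_erase.1 hη'
        exact hne ((Finset.mem_filter.1 hη'P).2 η (hPT η hη) (specializes_iff_mem_closure.2 hcl)).symm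
      · exact hx₀ η (hPT η hη) (specializes_iff_mem_closure.2 hmem)
    obtain ⟨e, w, h1, h2, -⟩ := c.exists_affine_locus_le hc (O := ⟨Cᶜ, hC.isOpen_compl⟩) hηC
    exact ⟨e, w, h1, fun η' hη' hne hmem => h2 hmem
      (Or.inl (Set.mem_iUnion₂.2 ⟨η', Finset.mem_erase.2 ⟨hne, hη'⟩, subset_closure rfl⟩)),
      fun hmem => h2 hmem (Or.inr (subset_closure rfl))⟩
  choose! e w hw₁ hw₂ hw₃ using hw
  let D : ℕ := ∏ η ∈ P, (e η + 1)
  refine ⟨D + j₀, ?_⟩
  have hy : ∀ η ∈ P, ∃ y : c.sect (D + j₀) ⊤, η ∈ c.locus y ∧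
      (∀ η' ∈ P, η' ≠ η → η' ∉ c.locus y) ∧ x₀ ∉ c.locus y := by
    intro η hη
    obtain ⟨r, hr⟩ : e η + 1 ∣ D := Finset.dvd_prod_of_mem _ hη
    have hr0 : 0 < r := by
      rcases Nat.eq_zero_or_pos r with h | h
      · have hD : 0 < D := Finset.prod_pos fun η _ => Nat.succ_pos _
        simp [h] at hr; omega
      · exact h
    obtain ⟨v, hv⟩ := hj₀ j₀ le_rfl η
    refine ⟨c.sectCast (show (e η + 1) * r + j₀ = D + j₀ by rw [hr]) (c.mul (c.sectPow (w η) r) v),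
      ?_, fun η' hη' hne => ?_, ?_⟩
    all_goals rw [c.locus_sectCast, c.locus_mul, c.locus_sectPow _ hr0]
    · exact ⟨hw₁ η hη, hv⟩
    · exact fun h => hw₂ η hη η' hη' hne h.1
    · exact fun h => hw₃ η hη h.1
  choose! y hy₁ hy₂ hy₃ using hy
  refine ⟨∑ η ∈ P, y η, fun η hη => ?_, ?_⟩
  · obtain ⟨π, hπ, hηπ⟩ := hP η hη
    refine hηπ.mem_open (c.locus _).2 ?_
    obtain ⟨i, hi⟩ := c.exists_mem π
    have hmem : π ∈ (⊤ : X.Opens) ⊓ c.D i := ⟨trivial, hi⟩
    show π ∈ c.locus _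
    rw [c.mem_locus_iff _ hi, Scheme.mem_basicOpen _ _ π hmem]
    rw [AddSubgroup.val_finsetSum, Finset.sum_apply, map_sum, ← Finset.add_sum_erase _ _ hπ]
    by_contra hu
    have hrest : ∑ z ∈ P.erase π, X.presheaf.germ _ π hmem ((y z).1 i) ∈
        IsLocalRing.maximalIdeal (X.presheaf.stalk π) := Ideal.sum_mem _ fun z hz => by
      obtain ⟨hne, hzP⟩ := Finset.mem_erase.1 hz
      have := hy₂ z hzP π hπ (Ne.symm hne)
      rw [c.mem_locus_iff _ hi, Scheme.mem_basicOpen _ _ π hmem] at this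
      exact (IsLocalRing.mem_maximalIdeal _).2 this
    have hmain : IsUnit (X.presheaf.germ _ π hmem ((y π).1 i)) :=
      (Scheme.mem_basicOpen _ _ π hmem).1 ((c.mem_locus_iff _ hi).1 (hy₁ π hπ))
    refine IsLocalRing.notMem_maximalIdeal.2 hmain ?_
    exact (Submodule.add_mem_iff_left _ hrest).1 ((IsLocalRing.mem_maximalIdeal _).2 hu)
  · obtain ⟨i, hi⟩ := c.exists_mem x₀
    have hmem : x₀ ∈ (⊤ : X.Opens) ⊓ c.D i := ⟨trivial, hi⟩
    rw [c.mem_locus_iff _ hi, Scheme.mem_basicOpen _ _ x₀ hmem, AddSubgroup.val_finsetSum, Finset.sum_apply,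
      map_sum, ← mem_nonunits_iff, ← IsLocalRing.mem_maximalIdeal]
    refine Ideal.sum_mem _ fun z hz => (IsLocalRing.mem_maximalIdeal _).2 ?_
    have := hy₃ z hz
    rwa [c.mem_locus_iff _ hi, Scheme.mem_basicOpen _ _ x₀ hmem] at this

/-- A closed subscheme with principal ideals on affine charts through `x₀`, missing a finite set of points none of
which is a specialization of `x₀`. -/
theorem exists_affPrincipal_avoid [CompactSpace X] {L : X.Modules} (hL : CohB1.IsAmple L) {T : Set X}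
    (hT : T.Finite) (x₀ : X) (hx₀ : ∀ η ∈ T, ¬ x₀ ⤳ η) :
    ∃ I : X.IdealSheafData, x₀ ∈ I.support ∧ (∀ η ∈ T, η ∉ I.support) ∧
      ∀ x : X, ∃ (U : X.affineOpens) (f : Γ(X, U.1)), x ∈ U.1 ∧ I.ideal U = Ideal.span {f} := by
  obtain ⟨c, ⟨e⟩⟩ := Ample.exists_cocycle hL.1
  have hc := ((c.isAmple_iff e).1 hL).2
  obtain ⟨m, v, hvT, hv₀⟩ := exists_sect_vanishing c hc hT x₀ hx₀
  let I := PicF2.zeroScheme (c.twist m) (c.hom v)
  have key : ∀ x : X, ∃ (U : X.affineOpens) (f : Γ(X, U.1)), x ∈ U.1 ∧ I.ideal U = Ideal.span {f} ∧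
      ∀ p ∈ U.1, (p ∈ X.basicOpen f ↔ p ∈ c.locus v) := by
    intro x
    obtain ⟨i, hi⟩ := c.exists_mem x
    obtain ⟨U, hxU, hUD⟩ := BlowUp.exists_affine_mem_le hi
    have hU' : U.1 ≤ ⊤ ⊓ c.D i := le_inf le_top hUD
    refine ⟨U, Ample.res hU' (v.1 i), hxU, Jets.zeroScheme_ideal_gen (c.isInvertible_twist m) _ U
      (c.isGen_base m i hUD) ?_, fun p hp => ?_⟩
    · refine (c.hom_app_apply v U.1 (1 : Γ(X, U.1))).trans ?_
      show (1 : Γ(X, U.1)) • (c.sectRes le_top v : c.sect m U.1) =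
        (Ample.res hU' (v.1 i) • c.base m i hUD : c.sect m U.1)
      rw [one_smul]
      refine c.sect_ext_of_le hUD ?_
      rw [Cocycle.sectRes_apply, Cocycle.smul_apply, Cocycle.base_self, mul_one, Ample.res_res]
    · rw [Scheme.basicOpen_res, c.mem_locus_iff v (hUD hp)]
      exact ⟨fun h => h.2, fun h => ⟨hp, h⟩⟩
  have hsupp : ∀ p : X, p ∈ I.support ↔ p ∉ c.locus v := by
    intro p
    obtain ⟨U, f, hp, hI, hf⟩ := key p
    rw [Scheme.IdealSheafData.mem_support_iff_of_mem hp, hI, Scheme.mem_zeroLocus_iff, ← hf p hp]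
    refine ⟨fun h => h f (Ideal.mem_span_singleton_self f), fun h g hg hpg => h ?_⟩
    obtain ⟨a, rfl⟩ := Ideal.mem_span_singleton'.1 hg
    rw [Scheme.basicOpen_mul] at hpg
    exact hpg.2
  refine ⟨I, (hsupp x₀).2 hv₀, fun η hη h => (hsupp η).1 h (hvT η hη), fun x => ?_⟩
  obtain ⟨U, f, hx, hI, -⟩ := key x
  exact ⟨U, f, hx, hI⟩

/-- A closed subscheme with principal stalk ideals through `x₀`, missing a finite set of points none of
which is a specialization of `x₀`. -/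
theorem exists_locPrincipal_avoid [CompactSpace X] {L : X.Modules} (hL : CohB1.IsAmple L) {T : Set X}
    (hT : T.Finite) (x₀ : X) (hx₀ : ∀ η ∈ T, ¬ x₀ ⤳ η) :
    ∃ I : X.IdealSheafData, x₀ ∈ I.support ∧ (∀ η ∈ T, η ∉ I.support) ∧
      ∀ x : X, ∃ f, stalkIdeal I x = Ideal.span {f} := by
  obtain ⟨I, h1, h2, h3⟩ := exists_affPrincipal_avoid hL hT x₀ hx₀
  refine ⟨I, h1, h2, fun x => ?_⟩
  obtain ⟨U, f, hx, hI⟩ := h3 x
  exact ⟨_, by rw [stalkIdeal_eq I U hx, hI, Ideal.map_span, Set.image_singleton]⟩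

end GrothLib.QSecGen13
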