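import Groth.Agent.Lib.QSecGen13.Saturate
import Groth.Agent.Lib.Chow.Core

/-!
# Combining quasi-sections; the quotient of an open set with a quasi-section
-/

set_option autoImplicit false
set_option linter.all false
set_option backward.isDefEq.respectTransparency false

universe u

open CategoryTheory CategoryTheory.Limits AlgebraicGeometry

noncomputable section

namespace GrothLib.QSecGen13

open GrothLib.GrpdQuot

variable {S : Scheme.{u}} (G : Grpd.GroupoidScheme S)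

theorem isImmersion_restrict_of_coprod {F₁ F : Scheme.{u}} (j : F₁ ⟶ F) [IsOpenImmersion j] (u : F ⟶ G.U)
    (u₁ : F₁ ⟶ G.U) [IsImmersion u₁] (hu : j ≫ u = u₁) (W : G.U.Opens) (hj : ∀ x : F, u x ∈ W → x ∈ Set.range j) :
    IsImmersion (u ∣_ W) := by
  subst hu
  haveI : Surjective (j ∣_ (u ⁻¹ᵁ W)) := ⟨fun p => by
    obtain ⟨b, hb⟩ := hj p.1 p.2
    exact ⟨⟨b, show j b ∈ u ⁻¹ᵁ W from hb.symm ▸ p.2⟩, Subtype.ext ((morphismRestrict_base_coe _ _ _).trans hb)⟩⟩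
  haveI : IsIso (j ∣_ (u ⁻¹ᵁ W)) :=
    (isIso_iff_isOpenImmersion_and_surjective _).mpr ⟨inferInstance, inferInstance⟩
  have h : IsImmersion ((j ≫ u) ∣_ W) := IsZariskiLocalAtTarget.restrict ‹IsImmersion (j ≫ u)› W
  rw [morphismRestrict_comp] at h
  exact (MorphismProperty.cancel_left_of_respectsIso @IsImmersion (j ∣_ (u ⁻¹ᵁ W)) _).1 h

/-- Quasi-section data over disjoint invariant opens combine. -/
theorem QSData.sup {W₁ W₂ : G.U.Opens} (D₁ : QSData G W₁) (D₂ : QSData G W₂) (hd : Disjoint W₁ W₂) :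
    Nonempty (QSData G (W₁ ⊔ W₂)) := by
  haveI := D₁.immersion
  haveI := D₂.immersion
  let u := coprod.desc D₁.u D₂.u
  have h1 : (coprod.inl : D₁.F ⟶ D₁.F ⨿ D₂.F) ≫ u = D₁.u := coprod.inl_desc _ _
  have h2 : (coprod.inr : D₂.F ⟶ D₁.F ⨿ D₂.F) ≫ u = D₂.u := coprod.inr_desc _ _
  have hcases : ∀ x : ↥(D₁.F ⨿ D₂.F), x ∈ Set.range (coprod.inl : D₁.F ⟶ _) ∨
      x ∈ Set.range (coprod.inr : D₂.F ⟶ _) := fun x =>
    Set.mem_union _ _ _ |>.1 ((AlgebraicGeometry.isCompl_range_inl_inr D₁.F D₂.F).sup_eq_top.ge (Set.mem_univ x))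
  have hd' : ∀ p : G.U, p ∈ W₁ → p ∈ W₂ → False := fun p hp₁ hp₂ =>
    Set.disjoint_left.1 (TopologicalSpace.Opens.coe_disjoint.2 hd) hp₁ hp₂
  have hu₁ : ∀ a, u ((coprod.inl : D₁.F ⟶ D₁.F ⨿ D₂.F) a) = D₁.u a := fun a => by
    rw [← Scheme.Hom.comp_apply, h1]
  have hu₂ : ∀ a, u ((coprod.inr : D₂.F ⟶ D₁.F ⨿ D₂.F) a) = D₂.u a := fun a => by
    rw [← Scheme.Hom.comp_apply, h2]
  have hj₁ : ∀ x, u x ∈ W₁ → x ∈ Set.range (coprod.inl : D₁.F ⟶ _) := fun x hx =>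
    (hcases x).resolve_right fun ⟨a, ha⟩ => hd' _ hx (by rw [← ha, hu₂]; exact D₂.range_le a)
  have hj₂ : ∀ x, u x ∈ W₂ → x ∈ Set.range (coprod.inr : D₂.F ⟶ _) := fun x hx =>
    (hcases x).resolve_left fun ⟨a, ha⟩ => hd' _ (by rw [← ha, hu₁]; exact D₁.range_le a) hx
  have hrange : ∀ x, u x ∈ W₁ ⊔ W₂ := fun x => by
    rcases hcases x with ⟨a, rfl⟩ | ⟨a, rfl⟩
    · exact Or.inl (by rw [hu₁]; exact D₁.range_le a)
    · exact Or.inr (by rw [hu₂]; exact D₂.range_le a)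
  let O : Bool → G.U.Opens := fun b => if b then W₁ else W₂
  refine ⟨⟨_, u, ?_, ?_, hrange, ?_, ?_⟩⟩
  · rw [Scheme.Hom.preimage_sup, Scheme.Hom.preimage_sup, D₁.invariant, D₂.invariant]
  · refine Chow.isImmersion_of_cover' u O (top_le_iff.1 fun x _ => ?_) fun b => ?_
    · rcases hrange x with h | h
      · exact TopologicalSpace.Opens.mem_iSup.2 ⟨true, h⟩
      · exact TopologicalSpace.Opens.mem_iSup.2 ⟨false, h⟩
    · cases b
      · exact isImmersion_restrict_of_coprod G _ u D₂.u h2 W₂ hj₂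
      · exact isImmersion_restrict_of_coprod G _ u D₁.u h1 W₁ hj₁
  · refine IsZariskiLocalAtTarget.of_iSup_eq_top (P := FLS) (fun b => (W₁ ⊔ W₂).ι ⁻¹ᵁ O b) ?_ fun b => ?_
    · rw [← Scheme.Hom.preimage_iSup, show ⨆ b, O b = W₁ ⊔ W₂ by rw [iSup_bool_eq]; rfl]
      exact (W₁ ⊔ W₂).ι_preimage_self
    · refine (MorphismProperty.arrow_mk_iso_iff FLS
        (morphismRestrictRestrict (arrToS G u) (W₁ ⊔ W₂) _)).mpr ?_
      rw [show (W₁ ⊔ W₂).ι ''ᵁ ((W₁ ⊔ W₂).ι ⁻¹ᵁ O b) = O b from by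
        rw [Scheme.Hom.image_preimage_eq_opensRange_inf, Scheme.Opens.opensRange_ι]
        exact inf_eq_right.mpr (by cases b <;> simp [O])]
      cases b
      · exact (FLS_congr G u _ D₂.u h2 W₂ D₂.invariant hj₂).1 D₂.fls
      · exact (FLS_congr G u _ D₁.u h1 W₁ D₁.invariant hj₁).1 D₁.fls
  · intro E hE
    rcases E.eq_empty_or_nonempty with rfl | ⟨x₀, hx₀⟩
    · exact ⟨⊥, isAffineOpen_bot _, Set.empty_subset _⟩
    have key : ∀ (F₁ : Scheme.{u}) (j : F₁ ⟶ D₁.F ⨿ D₂.F) [IsOpenImmersion j] (u₁ : F₁ ⟶ G.U) (W : G.U.Opens),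
        G.s ⁻¹ᵁ W = G.t ⁻¹ᵁ W → j ≫ u = u₁ → (∀ x, u x ∈ W → x ∈ Set.range j) → u x₀ ∈ W →
        (∀ E : Set F₁, (∀ x ∈ E, ∀ y ∈ E, ∃ r : G.R, G.t r = u₁ x ∧ G.s r = u₁ y) →
          ∃ V : F₁.Opens, IsAffineOpen V ∧ E ⊆ (V : Set F₁)) →
        ∃ V : (D₁.F ⨿ D₂.F).Opens, IsAffineOpen V ∧ E ⊆ (V : Set ↥(D₁.F ⨿ D₂.F)) := by
      intro F₁ j _ u₁ W hW hu₁' hj hx₀W hc
      subst hu₁'
      obtain ⟨V, hV, hEV⟩ := hc (j ⁻¹' E) fun a ha b hb => by
        simpa only [Scheme.Hom.comp_apply] using hE _ ha _ hb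
      refine ⟨j ''ᵁ V, hV.image_of_isOpenImmersion j, fun x hx => ?_⟩
      obtain ⟨r, hrt, hrs⟩ := hE x hx x₀ hx₀
      have hr : r ∈ G.s ⁻¹ᵁ W := show G.s r ∈ W from hrs.symm ▸ hx₀W
      rw [hW] at hr
      obtain ⟨a, rfl⟩ := hj x (hrt ▸ hr)
      exact ⟨a, hEV hx, rfl⟩
    rcases hrange x₀ with h | h
    · exact key _ _ _ W₁ D₁.invariant h1 hj₁ h D₁.covered
    · exact key _ _ _ W₂ D₂.invariant h2 hj₂ h D₂.covered

variable {G}

/-- Quasi-section data give a quasi-section of the restricted groupoid. -/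
theorem QSData.exists_isQuasiSection_ι {W : G.U.Opens} (D : QSData G W) :
    ∃ (u' : D.F ⟶ (restrict G W D.invariant).U) (_ : Mono u'),
      IsImmersion u' ∧ u' ≫ W.ι = D.u ∧ IsQuasiSection (restrict G W D.invariant) u' := by
  haveI := D.immersion
  let u' : D.F ⟶ (W : Scheme.{u}) := IsOpenImmersion.lift W.ι D.u (by
    rintro _ ⟨x, rfl⟩; rw [Scheme.Opens.range_ι]; exact D.range_le x)
  have hu' : u' ≫ W.ι = D.u := IsOpenImmersion.lift_fac _ _ _
  haveI : IsImmersion u' := by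
    haveI : IsImmersion (u' ≫ W.ι) := by rw [hu']; infer_instance
    exact IsImmersion.of_comp u' W.ι
  haveI : Mono u' := inferInstance
  let R₁ := G.s ⁻¹ᵁ W
  let v := arrToS G D.u
  let t' : (R₁ : Scheme.{u}) ⟶ (W : Scheme.{u}) := tRes G W D.invariant
  have ht' : t' ≫ W.ι = R₁.ι ≫ G.t := tRes_ι G W D.invariant
  let a : pullback t' u' ⟶ arrTo G D.u :=
    pullback.lift (pullback.fst t' u' ≫ R₁.ι) (pullback.snd t' u') (by
      rw [Category.assoc, ← ht', ← Category.assoc, pullback.condition, Category.assoc, hu'])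
  have ha : Set.range a ⊆ Set.range (v ⁻¹ᵁ W).ι := by
    rintro _ ⟨p, rfl⟩
    rw [Scheme.Opens.range_ι]
    show (pullback.fst G.t D.u ≫ G.s) (a p) ∈ W
    rw [← Scheme.Hom.comp_apply, ← Category.assoc, pullback.lift_fst, Category.assoc, Scheme.Hom.comp_apply]
    exact (pullback.fst t' u' p).2
  let b := IsOpenImmersion.lift (v ⁻¹ᵁ W).ι a ha
  have hb : b ≫ (v ⁻¹ᵁ W).ι = a := IsOpenImmersion.lift_fac _ _ _
  let c₁ : ((v ⁻¹ᵁ W) : Scheme.{u}) ⟶ (R₁ : Scheme.{u}) :=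
    liftR G W ((v ⁻¹ᵁ W).ι ≫ pullback.fst G.t D.u) (v ∣_ W) (by
      rw [Category.assoc, morphismRestrict_ι]; rfl)
  have hc₁ : c₁ ≫ R₁.ι = (v ⁻¹ᵁ W).ι ≫ pullback.fst G.t D.u := liftR_ι _ _ _ _ _
  let c : ((v ⁻¹ᵁ W) : Scheme.{u}) ⟶ pullback t' u' :=
    pullback.lift c₁ ((v ⁻¹ᵁ W).ι ≫ pullback.snd G.t D.u) (by
      rw [← cancel_mono W.ι, Category.assoc, ht', ← Category.assoc, hc₁, Category.assoc, Category.assoc,
        Category.assoc, hu', pullback.condition])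
  haveI : IsIso b := ⟨c, by
    apply pullback.hom_ext
    · rw [← cancel_mono R₁.ι]
      simp only [c, Category.assoc, Category.id_comp, pullback.lift_fst_assoc]
      rw [hc₁, ← Category.assoc, hb]
      exact pullback.lift_fst _ _ _
    · simp only [c, Category.assoc, Category.id_comp, pullback.lift_snd]
      rw [← Category.assoc, hb]
      exact pullback.lift_snd _ _ _, by
    rw [← cancel_mono (v ⁻¹ᵁ W).ι, Category.assoc, hb, Category.id_comp]
    apply pullback.hom_ext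
    · simp only [a, c, Category.assoc, pullback.lift_fst, pullback.lift_fst_assoc]
      exact hc₁
    · simp only [a, c, Category.assoc, pullback.lift_snd]⟩
  have hkey : arrToS (restrict G W D.invariant) u' = b ≫ (v ∣_ W) := by
    show pullback.fst t' u' ≫ (G.s ∣_ W) = b ≫ (v ∣_ W)
    rw [← cancel_mono W.ι, Category.assoc, Category.assoc, morphismRestrict_ι, morphismRestrict_ι,
      reassoc_of% hb]
    simp only [v, R₁, arrToS, a, pullback.lift_fst_assoc, Category.assoc]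
  obtain ⟨h₁, h₂, h₃, h₄⟩ := (MorphismProperty.cancel_left_of_respectsIso FLS b (v ∣_ W)).2 D.fls
  refine ⟨u', inferInstance, inferInstance, hu', ⟨hkey ▸ h₁, hkey ▸ h₂, hkey ▸ h₃, hkey ▸ h₄, fun E hE => ?_⟩⟩
  refine D.covered E fun x hx y hy => ?_
  obtain ⟨r, hrt, hrs⟩ := hE x hx y hy
  refine ⟨R₁.ι r, ?_, ?_⟩
  · rw [← Scheme.Hom.comp_apply, ← ht', ← hu', Scheme.Hom.comp_apply, Scheme.Hom.comp_apply]
    exact congrArg W.ι hrt
  · rw [← Scheme.Hom.comp_apply, ← sRes_ι, ← hu', Scheme.Hom.comp_apply, Scheme.Hom.comp_apply]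
    exact congrArg W.ι hrs

/-- Quasi-section data give a quasi-section of the restricted groupoid. -/
theorem QSData.exists_isQuasiSection {W : G.U.Opens} (D : QSData G W) :
    ∃ (u' : D.F ⟶ (restrict G W D.invariant).U) (_ : Mono u'),
      IsImmersion u' ∧ IsQuasiSection (restrict G W D.invariant) u' :=
  let ⟨u', hm, hi, _, h⟩ := D.exists_isQuasiSection_ι
  ⟨u', hm, hi, h⟩

end GrothLib.QSecGen13
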