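import Groth.Agent.Lib.DimCut.StalkFibre
import Groth.Agent.Lib.FibreFlat.Stalk
import Groth.Agent.Lib.Mero.Regular
import Groth.Agent.Lib.CartierDescent.Normal
import Groth.Agent.Lib.RelReg.Stalk

/-!
# Flatness of a principal cut avoiding the associated points of the fibre
-/

set_option autoImplicit false
set_option linter.all false
set_option backward.isDefEq.respectTransparency false

universe u

open CategoryTheory CategoryTheory.Limits AlgebraicGeometry TopologicalSpace Opposite IsLocalRing Pointwise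

noncomputable section

namespace GrothLib.QSecGen13

open GrothLib.CartierDescent (stalkIdeal stalkIdeal_eq stalkIdeal_comap)

/-- A generator of a stalk ideal whose support avoids the associated generizations is regular. -/
theorem mem_nonZeroDivisors_of_support {W : Scheme.{u}} [IsLocallyNoetherian W] (J : W.IdealSheafData) (a : W)
    (g : W.presheaf.stalk a) (hJ : stalkIdeal J a = Ideal.span {g})
    (h : ∀ y, Mero.IsWA y → y ⤳ a → y ∉ J.support) : g ∈ nonZeroDivisors (W.presheaf.stalk a) := by
  obtain ⟨U, haU, F, rfl⟩ := W.presheaf.exists_germ_eq g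
  obtain ⟨V, haV, hVU⟩ := BlowUp.exists_affine_mem_le haU
  let F' := W.presheaf.map (homOfLE hVU).op F
  have hF' : W.presheaf.germ V.1 a haV F' = W.presheaf.germ U a haU F :=
    TopCat.Presheaf.germ_res_apply W.presheaf _ _ _ _
  have key : ∀ (y : W) (hy : y ∈ V.1), Mero.IsWA y → y ⤳ a → y ∈ W.basicOpen F' := by
    intro y hy hwa hya
    rw [Scheme.mem_basicOpen _ _ y hy]
    by_contra hu
    apply h y hwa hya
    by_contra hns
    have h1 := (CartierDescent.stalkIdeal_eq_top_iff J y).2 hns
    have h2 : stalkIdeal J y = (stalkIdeal J a).map (W.presheaf.stalkSpecializes hya).hom := by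
      rw [stalkIdeal_eq J V hy, stalkIdeal_eq J V haV, Ideal.map_map, ← CommRingCat.hom_comp,
        TopCat.Presheaf.germ_stalkSpecializes]
    rw [h2, hJ, Ideal.map_span, Set.image_singleton, ← hF', ← CommRingCat.comp_apply,
      TopCat.Presheaf.germ_stalkSpecializes, Ideal.span_singleton_eq_top] at h1
    exact hu h1
  let T := {y : W | Mero.IsWA y ∧ ¬ y ⤳ a} ∩ (V.1 : Set W)
  have hT : T.Finite := (Mero.locFiniteWA_of_noetherian V).subset fun y hy => ⟨hy.1.1, hy.2⟩
  let C : Set W := ⋃ y ∈ T, closure {y}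
  have hC : IsClosed C := hT.isClosed_biUnion fun y _ => isClosed_closure
  have haC : a ∉ C := by
    intro hx
    obtain ⟨y, hy, hyx⟩ := Set.mem_iUnion₂.1 hx
    exact hy.1.2 (specializes_iff_mem_closure.2 hyx)
  let O : W.Opens := V.1 ⊓ ⟨Cᶜ, hC.isOpen_compl⟩
  have hr : W.presheaf.map (homOfLE (inf_le_left : O ≤ V.1)).op F' ∈ _root_.Mero.regSub W O := by
    rw [Mero.regSub_iff]
    intro y hyO hy
    rw [Scheme.basicOpen_res]
    refine ⟨hyO, key y hyO.1 hy ?_⟩
    by_contra hya
    exact hyO.2 (Set.mem_iUnion₂.2 ⟨y, ⟨⟨hy, hya⟩, hyO.1⟩, subset_closure rfl⟩)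
  have h3 := hr ⟨a, haV, haC⟩
  rw [TopCat.Presheaf.germ_res_apply, hF'] at h3
  exact h3

/-- Cutting by a principal ideal which avoids the associated points of the fibre keeps flatness. -/
theorem flat_cut {Y Z P : Scheme.{u}} [IsLocallyNoetherian Y] (v : Y ⟶ Z) [LocallyOfFiniteType v] (k : P ⟶ Y) [IsClosedImmersion k]
    (p : P) (hflat : (v.stalkMap (k p)).hom.Flat) (f : Y.presheaf.stalk (k p))
    (hf : stalkIdeal k.ker (k p) = Ideal.span {f})
    (h : ∀ y : v.fiber (v (k p)), Mero.IsWA y → v.fiberι _ y ∉ k.ker.support) :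
    ((k ≫ v).stalkMap p).hom.Flat := by
  let A := Z.presheaf.stalk (v (k p))
  let B := Y.presheaf.stalk (k p)
  let F := (v.fiber (v (k p))).presheaf.stalk (v.asFiber (k p))
  haveI : IsLocallyNoetherian (v.fiber (v (k p))) := by
    haveI : LocallyOfFiniteType (v.fiberToSpecResidueField (v (k p))) :=
      MorphismProperty.pullback_snd v (Z.fromSpecResidueField (v (k p))) ‹_›
    exact LocallyOfFiniteType.isLocallyNoetherian (v.fiberToSpecResidueField (v (k p)))
  letI : Algebra A B := (v.stalkMap (k p)).hom.toAlgebra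
  haveI : IsLocalHom (algebraMap A B) := inferInstanceAs (IsLocalHom (v.stalkMap (k p)).hom)
  haveI : Module.Flat A B := hflat
  obtain ⟨hsurj, hker⟩ := FibreFlat.fiberι_stalkMap' v (v (k p)) (v.asFiber (k p)) (k p) (v.fiberι_asFiber (k p))
  let φ : B →+* F :=
    ((Y.presheaf.stalkCongr (.of_eq (v.fiberι_asFiber (k p)).symm)).hom ≫
      (v.fiberι (v (k p))).stalkMap (v.asFiber (k p))).hom
  have hφf : φ f ∈ nonZeroDivisors F := by
    refine mem_nonZeroDivisors_of_support (k.ker.comap (v.fiberι _)) _ _ ?_ fun y hy _ hys => h y hy ?_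
    · rw [stalkIdeal_comap]
      have : ∀ (x : Y) (hx : x = (k p)), stalkIdeal k.ker x =
          Ideal.span {(Y.presheaf.stalkCongr (.of_eq hx.symm)).hom f} := by
        rintro x rfl
        simpa using hf
      rw [this _ (v.fiberι_asFiber (k p)), Ideal.map_span, Set.image_singleton]
      rfl
    · rw [Scheme.IdealSheafData.support_comap] at hys
      exact hys
  have hreg : IsSMulRegular (B ⧸ ((maximalIdeal A).map (algebraMap A B) • ⊤ : Submodule B B)) f := by
    intro a b hab
    obtain ⟨a, rfl⟩ := Submodule.Quotient.mk_surjective _ a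
    obtain ⟨b, rfl⟩ := Submodule.Quotient.mk_surjective _ b
    simp only [← Submodule.Quotient.mk_smul, Submodule.Quotient.eq, Ideal.smul_eq_mul, Ideal.mul_top] at hab ⊢
    change f * a - f * b ∈ _ at hab
    rw [show (maximalIdeal A).map (algebraMap A B) = RingHom.ker φ from hker.symm] at hab ⊢
    rw [← mul_sub, RingHom.mem_ker, map_mul] at hab
    exact RingHom.mem_ker.2 ((mem_nonZeroDivisors_iff.mp hφf).1 _ hab)
  obtain ⟨-, hq⟩ := DimCut.isSMulRegular_flat_of_fibre (A := A) (M := B) f hreg
  have hks : Function.Surjective (k.stalkMap p).hom := SurjectiveOnStalks.stalkMap_surjective k p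
  have hkk : RingHom.ker (k.stalkMap p).hom = Ideal.span {f} := by
    obtain ⟨V, hxV, -⟩ := BlowUp.exists_affine_mem_le (show k p ∈ (⊤ : Y.Opens) from trivial)
    rw [RelReg.ker_stalkMap_eq_map k V.2 (IsZariskiLocalAtTarget.restrict ‹_› _) p hxV, ← hf,
      stalkIdeal_eq _ V hxV, Scheme.Hom.ker_apply]
  letI : Algebra A (P.presheaf.stalk p) := ((k ≫ v).stalkMap p).hom.toAlgebra
  have halg : algebraMap A (P.presheaf.stalk p) = (k.stalkMap p).hom.comp (algebraMap A B) := by
    rw [RingHom.algebraMap_toAlgebra, RingHom.algebraMap_toAlgebra, Scheme.Hom.stalkMap_comp,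
      CommRingCat.hom_comp]
  let ψ : B →ₗ[A] P.presheaf.stalk p :=
    { toFun := (k.stalkMap p).hom, map_add' := map_add _,
      map_smul' := fun r b => by
        rw [Algebra.smul_def, map_mul, RingHom.id_apply, Algebra.smul_def, halg]; rfl }
  have hψ : LinearMap.ker ψ = ((show B from f) • ⊤ : Submodule B B).restrictScalars A := by
    ext b
    show (k.stalkMap p).hom b = 0 ↔ b ∈ ((show B from f) • ⊤ : Submodule B B)
    rw [← RingHom.mem_ker, hkk, Submodule.mem_smul_pointwise_iff_exists, Ideal.mem_span_singleton']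
    exact ⟨fun ⟨a, ha⟩ => ⟨a, trivial, by rw [smul_eq_mul, mul_comm, ha]⟩,
      fun ⟨a, _, ha⟩ => ⟨a, by rw [mul_comm, ← smul_eq_mul, ha]⟩⟩
  show Module.Flat A (P.presheaf.stalk p)
  exact Module.Flat.of_linearEquiv (((Submodule.quotEquivOfEq _ _ hψ).trans
    (Submodule.Quotient.restrictScalarsEquiv A _)).symm.trans
    (ψ.quotKerEquivOfSurjective hks)).symm

end GrothLib.QSecGen13
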