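import Groth.Agent.Lib.QSecGen13.FlatCut
import Groth.Agent.Lib.FibreFlat.Slice

/-!
# Flatness of a principal cut, without Noetherian hypotheses
-/

set_option autoImplicit false
set_option linter.all false
set_option backward.isDefEq.respectTransparency false

universe u

open CategoryTheory CategoryTheory.Limits AlgebraicGeometry TopologicalSpace Opposite IsLocalRing

noncomputable section

namespace GrothLib.QSecGen13

open GrothLib.CartierDescent (stalkIdeal stalkIdeal_eq stalkIdeal_comap)

/-- Cutting a flat finitely presented morphism by a principal ideal avoiding the associated points of the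
fibre keeps flatness. -/
theorem flat_cut_fp {Y Z P : Scheme.{u}} (v : Y ⟶ Z) [LocallyOfFinitePresentation v] (k : P ⟶ Y) [IsClosedImmersion k]
    (p : P) (hflat : (v.stalkMap (k p)).hom.Flat) (f : Y.presheaf.stalk (k p))
    (hf : stalkIdeal k.ker (k p) = Ideal.span {f})
    (h : ∀ y : v.fiber (v (k p)), Mero.IsWA y → v.fiberι _ y ∉ k.ker.support) :
    ((k ≫ v).stalkMap p).hom.Flat := by
  let A := Z.presheaf.stalk (v (k p))
  let B := Y.presheaf.stalk (k p)
  let F := (v.fiber (v (k p))).presheaf.stalk (v.asFiber (k p))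
  haveI : IsLocallyNoetherian (v.fiber (v (k p))) := by
    haveI : LocallyOfFiniteType (v.fiberToSpecResidueField (v (k p))) :=
      MorphismProperty.pullback_snd v (Z.fromSpecResidueField (v (k p))) inferInstance
    exact LocallyOfFiniteType.isLocallyNoetherian (v.fiberToSpecResidueField (v (k p)))
  letI : Algebra A B := (v.stalkMap (k p)).hom.toAlgebra
  haveI : IsLocalHom (algebraMap A B) := inferInstanceAs (IsLocalHom (v.stalkMap (k p)).hom)
  haveI : Module.Flat A B := hflat
  obtain ⟨hsurj, hker⟩ := FibreFlat.fiberι_stalkMap' v (v (k p)) (v.asFiber (k p)) (k p) (v.fiberι_asFiber (k p))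
  let φ : B →+* F :=
    ((Y.presheaf.stalkCongr (.of_eq (v.fiberι_asFiber (k p)).symm)).hom ≫
      (v.fiberι (v (k p))).stalkMap (v.asFiber (k p))).hom
  have hφf : φ f ∈ nonZeroDivisors F := by
    refine mem_nonZeroDivisors_of_support (k.ker.comap (v.fiberι _)) _ _ ?_ fun y hy _ hys => h y hy ?_
    · rw [stalkIdeal_comap]
      have : ∀ (x : Y) (hx : x = (k p)), stalkIdeal k.ker x =
          Ideal.span {(Y.presheaf.stalkCongr (.of_eq hx.symm)).hom f} := by
        rintro x rfl
        simpa using hf
      rw [this _ (v.fiberι_asFiber (k p)), Ideal.map_span, Set.image_singleton]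
      rfl
    · rw [Scheme.IdealSheafData.support_comap] at hys
      exact hys
  have hks : Function.Surjective (k.stalkMap p).hom := SurjectiveOnStalks.stalkMap_surjective k p
  have hkk : RingHom.ker (k.stalkMap p).hom = Ideal.span {f} := by
    obtain ⟨V, hxV, -⟩ := BlowUp.exists_affine_mem_le (show k p ∈ (⊤ : Y.Opens) from trivial)
    rw [RelReg.ker_stalkMap_eq_map k V.2 (IsZariskiLocalAtTarget.restrict ‹_› _) p hxV, ← hf,
      stalkIdeal_eq _ V hxV, Scheme.Hom.ker_apply]
  have hfm : f ∈ maximalIdeal B := le_maximalIdeal (RingHom.ker_ne_top (k.stalkMap p).hom)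
    (hkk.ge (Ideal.mem_span_singleton_self f))
  let mB := (maximalIdeal A).map (algebraMap A B)
  have hker' : mB = RingHom.ker φ := hker.symm
  have hreg : RingTheory.Sequence.IsRegular (B ⧸ mB)
      ((List.ofFn fun _ : Fin 1 => f).map (Ideal.Quotient.mk mB)) := by
    have e : (List.ofFn fun _ : Fin 1 => f).map (Ideal.Quotient.mk mB) = [Ideal.Quotient.mk mB f] := by simp
    rw [e]
    refine ⟨(RingTheory.Sequence.isWeaklyRegular_singleton_iff _ _).2 fun a b hab => ?_, fun htop => ?_⟩
    · obtain ⟨a, rfl⟩ := Ideal.Quotient.mk_surjective a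
      obtain ⟨b, rfl⟩ := Ideal.Quotient.mk_surjective b
      replace hab : Ideal.Quotient.mk mB (f * a) = Ideal.Quotient.mk mB (f * b) := by
        simpa only [smul_eq_mul, ← map_mul] using hab
      rw [Ideal.Quotient.eq, hker'] at hab ⊢
      rw [← mul_sub, RingHom.mem_ker, map_mul] at hab
      exact RingHom.mem_ker.2 ((mem_nonZeroDivisors_iff.mp hφf).1 _ hab)
    · rw [smul_eq_mul, Ideal.mul_top, Ideal.ofList_singleton] at htop
      have h1 : Ideal.map (Ideal.Quotient.mk mB) (maximalIdeal B) = ⊤ := by
        rw [eq_top_iff, htop, Ideal.span_le, Set.singleton_subset_iff]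
        exact Ideal.mem_map_of_mem _ hfm
      have h2 := congrArg (Ideal.comap (Ideal.Quotient.mk mB)) h1
      rw [Ideal.comap_map_of_surjective _ Ideal.Quotient.mk_surjective, ← RingHom.ker_eq_comap_bot, Ideal.mk_ker,
        Ideal.comap_top, sup_eq_left.2 (Flatness.map_maximalIdeal_le)] at h2
      exact (maximalIdeal.isMaximal B).ne_top h2
  have hq := FibreFlat.flat_quotient_of_flat_aeval
    (FibreFlat.flat_aeval_of_fibre_regular (FibreFlat.isEssFinitePresentation_stalkMap v (k p)) (fun _ : Fin 1 => f) hreg)
  have hI : Ideal.ofList (List.ofFn fun _ : Fin 1 => f) = RingHom.ker (k.stalkMap p).hom := by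
    rw [hkk]; simp [Ideal.ofList_singleton]
  let e := (Ideal.quotEquivOfEq hI).trans (RingHom.quotientKerEquivOfSurjective hks)
  rw [Scheme.Hom.stalkMap_comp, CommRingCat.hom_comp]
  have heq : (k.stalkMap p).hom.comp (algebraMap A B) =
      e.toRingHom.comp ((Ideal.Quotient.mk _).comp (algebraMap A B)) :=
    RingHom.ext fun a => by simp [e]
  show ((k.stalkMap p).hom.comp (algebraMap A B)).Flat
  rw [heq]
  exact hq.comp (RingHom.Flat.of_bijective e.bijective)

/-- A closed subscheme with principal ideals on affine charts is finitely presented. -/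
theorem lfp_subschemeι_of_affPrincipal {X : Scheme.{u}} (I : X.IdealSheafData)
    (h : ∀ x : X, ∃ (U : X.affineOpens) (f : Γ(X, U.1)), x ∈ U.1 ∧ I.ideal U = Ideal.span {f}) :
    LocallyOfFinitePresentation I.subschemeι := by
  choose U f hxU hU using h
  refine IsZariskiLocalAtSource.of_openCover (P := @LocallyOfFinitePresentation)
    (Scheme.Cover.mkOfCovers (P := @IsOpenImmersion) X (fun x => I.glueDataObj (U x))
      (fun x => I.subschemeCover.f (U x))
      (fun y => ⟨I.subschemeι y, by
        have h := (I.opensRange_subschemeCover_map (U (I.subschemeι y))).ge (hxU (I.subschemeι y))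
        exact h⟩)
      fun x => inferInstance) fun x => ?_
  show LocallyOfFinitePresentation (I.subschemeCover.f (U x) ≫ I.subschemeι)
  rw [I.subschemeCover_map_subschemeι]
  haveI : LocallyOfFinitePresentation (Spec.map (CommRingCat.ofHom (Ideal.Quotient.mk (I.ideal (U x))))) := by
    refine (HasRingHomProperty.Spec_iff (P := @LocallyOfFinitePresentation)).2 ?_
    refine RingHom.FinitePresentation.of_surjective _ Ideal.Quotient.mk_surjective ?_
    rw [CommRingCat.hom_ofHom, Ideal.mk_ker, hU]
    exact Submodule.fg_span_singleton _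
  unfold Scheme.IdealSheafData.glueDataObjι
  infer_instance

end GrothLib.QSecGen13
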