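import Groth.Agent.Lib.QSecGen13.Step
import Groth.Agent.Lib.QSecGen13.Combine
import Groth.Agent.Lib.GenFinite9.Basic
import Groth.Agent.Lib.Ample.QuasiProj
import Groth.Agent.Lib.Ample.Criterion
import Groth.Agent.Lib.LocProp.Stalk
import Mathlib.AlgebraicGeometry.ZariskisMainTheorem

/-!
# A quasi-section over a dense invariant open set
-/

set_option autoImplicit false
set_option linter.all false
set_option backward.isDefEq.respectTransparency false
set_option maxHeartbeats 800000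

universe u

open CategoryTheory CategoryTheory.Limits AlgebraicGeometry TopologicalSpace

noncomputable section

namespace GrothLib.QSecGen13

open GrothLib.GrpdQuot

variable {S : Scheme.{u}} (G : Grpd.GroupoidScheme S)

/-- Every point generalizes to a maximal point. -/
theorem exists_gen_specializes {X : Scheme.{u}} (z : X) : ∃ m : X, m ⤳ z ∧ ∀ w : X, w ⤳ m → w = m := by
  obtain ⟨m, hm⟩ := QuasiSober.sober (isIrreducible_irreducibleComponent (x := z)) isClosed_irreducibleComponent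
  refine ⟨m, hm.specializes mem_irreducibleComponent, fun w hw => ?_⟩
  have h1 : irreducibleComponent z ⊆ closure {w} :=
    hm.def.symm.subset.trans (closure_minimal (Set.singleton_subset_iff.2 hw.mem_closure) isClosed_closure)
  have h2 := (irreducibleComponent_property z).2.2 _ isIrreducible_singleton.closure.isPreirreducible h1
  have h3 : IsGenericPoint w (irreducibleComponent z) := h2
  exact h3.eq hm

/-- A point closed in its fibre over the base inside a given nonempty open set. -/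
theorem exists_closedInFibre {U : Scheme.{u}} (p : U ⟶ S) [LocallyOfFiniteType p] (A : U.Opens)
    (hA : (A : Set U).Nonempty) :
    ∃ z ∈ A, ∀ z' : U, z ⤳ z' → p z' = p z → z' = z := by
  obtain ⟨a, ha⟩ := hA
  haveI : LocallyOfFiniteType (pullback.snd p (S.fromSpecResidueField (p a))) :=
    MorphismProperty.pullback_snd _ _ ‹_›
  haveI : JacobsonSpace (p.fiber (p a)) :=
    LocallyOfFiniteType.jacobsonSpace (pullback.snd p (S.fromSpecResidueField (p a)))
  obtain ⟨w, hwA, hw⟩ := nonempty_inter_closedPoints (Z := (p.fiberι (p a) ⁻¹ᵁ A : Set (p.fiber (p a))))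
    ⟨p.asFiber a, show p.fiberι (p a) (p.asFiber a) ∈ A from (p.fiberι_asFiber a).symm ▸ ha⟩
    (p.fiberι (p a) ⁻¹ᵁ A).2.isLocallyClosed
  refine ⟨p.fiberι (p a) w, hwA, fun z' hz' hp => ?_⟩
  obtain ⟨w', rfl⟩ := (p.range_fiberι (p a)).ge
    (show z' ∈ p ⁻¹' {p a} from hp.trans (DimCut.apply_fiberι p (p a) w))
  rw [(p.fiberι (p a)).isEmbedding.isInducing.specializes_iff] at hz'
  exact congrArg _ (hz'.mem_closed hw rfl)

/-- Over a point closed in its fibre, finitely many points of `F × U` lie over a finite set. -/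
theorem finite_pairs {F U : Scheme.{u}} (a : F ⟶ S) (p : U ⟶ S) [LocallyOfFiniteType p] (z : U)
    (hz : ∀ z' : U, z ⤳ z' → p z' = p z → z' = z) {E : Set F} (hE : E.Finite) :
    {q : ↥(pullback a p) | pullback.fst a p q ∈ E ∧ pullback.snd a p q = z}.Finite := by
  let s := p z
  let z₀ := p.asFiber z
  haveI : LocallyOfFiniteType (pullback.snd p (S.fromSpecResidueField s)) :=
    MorphismProperty.pullback_snd _ _ ‹_›
  haveI : JacobsonSpace (p.fiber s) :=
    LocallyOfFiniteType.jacobsonSpace (pullback.snd p (S.fromSpecResidueField s))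
  have hz₀ : IsClosed ({z₀} : Set (p.fiber s)) := by
    have e : ({z₀} : Set (p.fiber s)) = closure {z₀} := by
      refine Set.Subset.antisymm subset_closure fun w hw => ?_
      have h1 : z₀ ⤳ w := specializes_iff_mem_closure.2 hw
      have h2 := hz (p.fiberι s w) (p.fiberι_asFiber z ▸ h1.map (p.fiberι s).continuous)
        (DimCut.apply_fiberι p s w)
      exact (p.fiberι s).isEmbedding.injective (h2.trans (p.fiberι_asFiber z).symm)
    exact e ▸ isClosed_closure
  let ζ' := (p.fiber s).fromSpecResidueField z₀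
  haveI : IsClosedImmersion ζ' := isClosed_singleton_iff_isClosedImmersion.mp hz₀
  let g₀ := ζ' ≫ pullback.snd p (S.fromSpecResidueField s)
  haveI : IsFinite g₀ := (isFinite_iff_locallyOfFiniteType_of_jacobsonSpace (f := g₀)).mpr inferInstance
  let ζ := ζ' ≫ p.fiberι s
  have hζ : Set.range ζ = {z} := by
    show Set.range (ζ' ≫ p.fiberι s) = _
    rw [Scheme.Hom.comp_base, TopCat.coe_comp, Set.range_comp, Scheme.range_fromSpecResidueField,
      Set.image_singleton, p.fiberι_asFiber]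
  have hw : ζ ≫ p = g₀ ≫ S.fromSpecResidueField s := by
    show (ζ' ≫ pullback.fst p _) ≫ p = (ζ' ≫ pullback.snd p _) ≫ _
    rw [Category.assoc, Category.assoc, pullback.condition]
  let b : pullback a (ζ ≫ p) ⟶ a.fiber s :=
    pullback.lift (pullback.fst a (ζ ≫ p)) (pullback.snd a (ζ ≫ p) ≫ g₀) (pullback.condition.trans ((congrArg (pullback.snd a (ζ ≫ p) ≫ ·) hw).trans (Category.assoc _ _ _).symm))
  have sqb : IsPullback b (pullback.snd a (ζ ≫ p)) (pullback.snd a (S.fromSpecResidueField s)) g₀ := by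
    refine IsPullback.of_right ?_ (pullback.lift_snd _ _ _) (IsPullback.of_hasPullback a (S.fromSpecResidueField s))
    rw [show b ≫ pullback.fst a (S.fromSpecResidueField s) = pullback.fst a (ζ ≫ p) from pullback.lift_fst _ _ _, ← hw]
    exact IsPullback.of_hasPullback a (ζ ≫ p)
  haveI : IsFinite b := MorphismProperty.of_isPullback sqb.flip ‹IsFinite g₀›
  let ι' : pullback a (ζ ≫ p) ⟶ pullback a p :=
    pullback.map a (ζ ≫ p) a p (𝟙 F) ζ (𝟙 S) (by simp) (by simp)
  have hfin : ((a.fiberι s ⁻¹' E)).Finite := hE.preimage (a.fiberι s).isEmbedding.injective.injOn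
  refine ((b.finite_preimage hfin).image ι').subset ?_
  rintro q ⟨hqE, hqz⟩
  obtain ⟨k, hk⟩ : pullback.snd a p q ∈ Set.range ζ := hζ ▸ hqz
  have sqι : IsPullback ι' (pullback.snd a (ζ ≫ p)) (pullback.snd a p) ζ := by
    refine IsPullback.of_right ?_ (pullback.lift_snd _ _ _) (IsPullback.of_hasPullback a p)
    rw [show ι' ≫ pullback.fst a p = pullback.fst a (ζ ≫ p) from
      (pullback.lift_fst _ _ _).trans (Category.comp_id _)]
    exact IsPullback.of_hasPullback a (ζ ≫ p)
  obtain ⟨c, hc₁, -⟩ := Scheme.Pullback.exists_preimage_pullback (f := pullback.snd a p) (g := ζ) q k hk.symm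
  have hι : ι' (sqι.isoPullback.inv c) = q := by
    rw [← Scheme.Hom.comp_apply, sqι.isoPullback_inv_fst, hc₁]
  refine ⟨_, ?_, hι⟩
  show a.fiberι s (b (sqι.isoPullback.inv c)) ∈ E
  rw [← Scheme.Hom.comp_apply, show b ≫ a.fiberι s = pullback.fst a (ζ ≫ p) from pullback.lift_fst _ _ _]
  rw [← hι] at hqE
  rwa [← Scheme.Hom.comp_apply ι', show ι' ≫ pullback.fst a p = pullback.fst a (ζ ≫ p) from
    (pullback.lift_fst _ _ _).trans (Category.comp_id _)] at hqE

/-- Arrows into `F` from a point closed in its fibre, with finitely many targets, are finitely many. -/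
theorem finite_fibre_arrToS [IsLocallyNoetherian S] [QuasiCompact G.s] [LocallyOfFiniteType G.pU]
    [LocallyOfFiniteType G.s] [LocallyQuasiFinite G.j] [LocallyOfFiniteType G.j]
    {F : Scheme.{u}} (u : F ⟶ G.U) [LocallyOfFiniteType u] [CompactSpace F] (z : G.U)
    (hz : ∀ z' : G.U, z ⤳ z' → G.pU z' = G.pU z → z' = z)
    (h : (pullback.snd G.t u '' (arrToS G u ⁻¹' {z})).Finite) : (arrToS G u ⁻¹' {z}).Finite := by
  let Ψ : arrTo G u ⟶ pullback (u ≫ G.pU) G.pU :=
    pullback.lift (pullback.snd G.t u) (arrToS G u) (by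
      rw [← Category.assoc, ← pullback.condition, arrToS, Category.assoc, Category.assoc, G.t_over, G.s_over])
  let m : pullback (u ≫ G.pU) G.pU ⟶ pullback G.pU G.pU :=
    pullback.map (u ≫ G.pU) G.pU G.pU G.pU u (𝟙 G.U) (𝟙 S) (by simp) (by simp)
  have hmf : IsPullback m (pullback.fst (u ≫ G.pU) G.pU) (pullback.fst G.pU G.pU) u := by
    refine IsPullback.of_right ?_ (pullback.lift_fst _ _ _) (IsPullback.of_hasPullback G.pU G.pU).flip
    rw [show m ≫ pullback.snd G.pU G.pU = pullback.snd (u ≫ G.pU) G.pU from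
      (pullback.lift_snd _ _ _).trans (Category.comp_id _)]
    exact (IsPullback.of_hasPullback (u ≫ G.pU) G.pU).flip
  have hΨ1 : Ψ ≫ pullback.fst (u ≫ G.pU) G.pU = pullback.snd G.t u := pullback.lift_fst _ _ _
  have hsq : IsPullback (pullback.fst G.t u) Ψ G.j m := by
    refine IsPullback.of_bot ?_ ?_ hmf
    · rw [hΨ1, show G.j ≫ pullback.fst G.pU G.pU = G.t from pullback.lift_fst _ _ _]
      exact IsPullback.of_hasPullback G.t u
    · apply pullback.hom_ext
      · simp only [Grpd.GroupoidScheme.j, m, Category.assoc, pullback.lift_fst]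
        rw [← Category.assoc, hΨ1, pullback.condition]
      · simp only [Grpd.GroupoidScheme.j, m, Ψ, Category.assoc, pullback.lift_snd, pullback.lift_snd_assoc,
          Category.comp_id]
        rfl
  haveI : LocallyQuasiFinite Ψ := MorphismProperty.of_isPullback hsq ‹LocallyQuasiFinite G.j›
  haveI : IsLocallyNoetherian G.U := LocallyOfFiniteType.isLocallyNoetherian G.pU
  haveI : IsLocallyNoetherian G.R := LocallyOfFiniteType.isLocallyNoetherian G.s
  haveI : QuasiCompact G.t := by haveI := isIso_i G; rw [← G.i_s]; infer_instance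
  haveI : IsLocallyNoetherian (arrTo G u) := LocallyOfFiniteType.isLocallyNoetherian (pullback.fst G.t u)
  haveI : IsLocallyNoetherian F := LocallyOfFiniteType.isLocallyNoetherian u
  haveI : QuasiCompact u := inferInstance
  haveI : QuasiCompact (pullback.fst G.t u) := MorphismProperty.pullback_fst _ _ ‹_›
  haveI : CompactSpace ↥(arrTo G u) := QuasiCompact.compactSpace_of_compactSpace (pullback.snd G.t u)
  haveI : LocallyOfFiniteType (u ≫ G.pU) := inferInstance
  haveI : LocallyOfFiniteType (pullback.snd (u ≫ G.pU) G.pU) := MorphismProperty.pullback_snd _ _ ‹_›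
  haveI : IsLocallyNoetherian (pullback (u ≫ G.pU) G.pU) :=
    LocallyOfFiniteType.isLocallyNoetherian (pullback.snd (u ≫ G.pU) G.pU)
  haveI : QuasiCompact Ψ := inferInstance
  refine (Ψ.finite_preimage (finite_pairs (u ≫ G.pU) G.pU z hz h)).subset fun r hr => ⟨⟨r, hr, ?_⟩, ?_⟩
  · rw [← Scheme.Hom.comp_apply, hΨ1]
  · rw [← Scheme.Hom.comp_apply, show Ψ ≫ pullback.snd (u ≫ G.pU) G.pU = arrToS G u from pullback.lift_snd _ _ _]
    exact hr

/-- A quasi-finite flat source map gives quasi-section data meeting an invariant open set. -/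
theorem exists_qsData_of_flat [IsNoetherian S] [Flat G.s] [LocallyOfFiniteType G.s] [QuasiCompact G.s]
    [LocallyOfFiniteType G.pU] [QuasiCompact G.pU] {F : Scheme.{u}} (u : F ⟶ G.U) [IsImmersion u]
    [IsAffine F] (F' : F.Opens) (hflat : Flat (arrToS G (F'.ι ≫ u)))
    (hqf : LocallyQuasiFinite (arrToS G (F'.ι ≫ u)))
    (O₀ : G.U.Opens) (hO₀ : G.s ⁻¹ᵁ O₀ = G.t ⁻¹ᵁ O₀) (r₀ : arrTo G (F'.ι ≫ u))
    (hr₀ : arrToS G (F'.ι ≫ u) r₀ ∈ O₀) :
    ∃ W : G.U.Opens, W ≤ O₀ ∧ (W : Set G.U).Nonempty ∧ Nonempty (QSData G W) := by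
  haveI := hflat
  haveI := hqf
  haveI : CompactSpace G.U := QuasiCompact.compactSpace_of_compactSpace G.pU
  haveI : IsLocallyNoetherian G.U := LocallyOfFiniteType.isLocallyNoetherian G.pU
  haveI : LocallyOfFinitePresentation G.s := LocProp.locallyOfFinitePresentation_of_isLocallyNoetherian G.s
  haveI : CompactSpace G.R := QuasiCompact.compactSpace_of_compactSpace G.s
  haveI : IsLocallyNoetherian G.R := LocallyOfFiniteType.isLocallyNoetherian G.s
  haveI : IsNoetherian G.R := {}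
  let u₁ := F'.ι ≫ u
  haveI : IsImmersion u₁ := inferInstance
  let v := arrToS G u₁
  haveI : IsLocallyNoetherian F := LocallyOfFiniteType.isLocallyNoetherian u
  haveI : IsNoetherian F := {}
  haveI : QuasiCompact u₁ := inferInstance
  haveI : IsImmersion (pullback.fst G.t u₁) := inferInstance
  haveI : LocallyOfFiniteType v := by
    show LocallyOfFiniteType (pullback.fst G.t u₁ ≫ G.s); infer_instance
  haveI : QuasiCompact (pullback.fst G.t u₁) := MorphismProperty.pullback_fst _ _ ‹QuasiCompact u₁›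
  haveI : QuasiCompact v := by
    show QuasiCompact (pullback.fst G.t u₁ ≫ G.s); infer_instance
  haveI : IsLocallyNoetherian (arrTo G u₁) := LocallyOfFiniteType.isLocallyNoetherian (pullback.fst G.t u₁)
  haveI : QuasiSeparated v := inferInstance
  haveI : LocallyOfFinitePresentation v := LocProp.locallyOfFinitePresentation_of_isLocallyNoetherian v
  let P : G.U.Opens := ⟨Set.range v, v.isOpenMap.isOpen_range⟩
  obtain ⟨η, hη, hηs⟩ := exists_gen_specializes (v r₀) |>.imp fun m hm => And.intro hm.2 hm.1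
  have hηP : η ∈ P ⊓ O₀ := hηs.mem_open (P ⊓ O₀).2 ⟨⟨r₀, rfl⟩, hr₀⟩
  have hηc : closure {η} ∈ irreducibleComponents (G.U : Type u) := by
    refine ⟨isIrreducible_singleton.closure, fun T hT hsub => ?_⟩
    obtain ⟨ξ, hξ⟩ := QuasiSober.sober hT.closure isClosed_closure
    have h1 : ξ ⤳ η := hξ.specializes (subset_closure (hsub (subset_closure rfl)))
    rw [hη ξ h1] at hξ
    exact subset_closure.trans hξ.def.symm.subset
  obtain ⟨V, -, hηV, hVfin⟩ := GenFinite9.exists_affine_finite v η hηc (v.finite_preimage_singleton η)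
  let O₁ := V ⊓ (P ⊓ O₀)
  have hO₁ : FLS (v ∣_ O₁) := by
    refine ⟨?_, IsZariskiLocalAtTarget.restrict ‹Flat v› O₁, IsZariskiLocalAtTarget.restrict ‹_› O₁, ⟨fun q => ?_⟩⟩
    · have h := IsZariskiLocalAtTarget.restrict (P := @IsFinite) hVfin (V.ι ⁻¹ᵁ O₁)
      rw [MorphismProperty.arrow_mk_iso_iff @IsFinite (morphismRestrictRestrict v V (V.ι ⁻¹ᵁ O₁))] at h
      rwa [show V.ι ''ᵁ (V.ι ⁻¹ᵁ O₁) = O₁ by
        rw [Scheme.Hom.image_preimage_eq_opensRange_inf, Scheme.Opens.opensRange_ι]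
        exact inf_eq_right.mpr inf_le_left] at h
    · obtain ⟨r, hr⟩ := q.2.2.1
      exact ⟨⟨r, show v r ∈ O₁ from hr.symm ▸ q.2⟩, Subtype.ext ((morphismRestrict_base_coe _ _ _).trans hr)⟩
  let W := satOpen G O₁
  have hW := satOpen_invariant G O₁
  have hWle : W ≤ O₀ := by
    rintro x ⟨r, hr, rfl⟩
    have h : r ∈ G.s ⁻¹ᵁ O₀ := hr.2.2
    rw [hO₀] at h
    exact h
  let F₂ : (F' : Scheme.{u}).Opens := u₁ ⁻¹ᵁ W
  let u₂ := F₂.ι ≫ u₁
  have h2 : FLS (arrToS G u₂ ∣_ W) := by
    refine (FLS_congr G u₁ F₂.ι u₂ rfl W hW fun x hx => ?_).2 (FLS_satOpen G u₁ O₁ hO₁)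
    rw [Scheme.Opens.range_ι]
    exact hx
  haveI : IsImmersion u₂ := inferInstance
  haveI : CompactSpace ↥(F₂ : Scheme.{u}) := by
    haveI : CompactSpace ↥(F' : Scheme.{u}) := isCompact_iff_compactSpace.mp (TopologicalSpace.NoetherianSpace.isCompact _)
    haveI : IsNoetherian (F' : Scheme.{u}) := {}
    exact isCompact_iff_compactSpace.mp (TopologicalSpace.NoetherianSpace.isCompact _)
  haveI : (F₂ : Scheme.{u}).IsQuasiAffine := .of_isImmersion (F₂.ι ≫ F'.ι)
  have hr : ∀ x : (F₂ : Scheme.{u}), u₂ x ∈ W := fun x => x.2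
  exact ⟨W, hWle, ⟨η, le_satOpen G O₁ ⟨hηV, hηP⟩⟩,
    ⟨⟨_, u₂, hW, inferInstance, hr, h2, covered_of_isQuasiAffine G u₂ W hr h2⟩⟩⟩

/-- **The key step**: quasi-section data inside any nonempty invariant open set. -/
theorem exists_qsData [IsNoetherian S] [Flat G.s] [LocallyOfFiniteType G.s] [QuasiCompact G.s]
    [LocallyOfFiniteType G.pU] [QuasiCompact G.pU] [LocallyQuasiFinite G.j] [LocallyOfFiniteType G.j]
    (O₀ : G.U.Opens) (hO₀ : G.s ⁻¹ᵁ O₀ = G.t ⁻¹ᵁ O₀) (hne : (O₀ : Set G.U).Nonempty) :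
    ∃ W : G.U.Opens, W ≤ O₀ ∧ (W : Set G.U).Nonempty ∧ Nonempty (QSData G W) := by
  haveI : CompactSpace G.U := QuasiCompact.compactSpace_of_compactSpace G.pU
  haveI : IsLocallyNoetherian G.U := LocallyOfFiniteType.isLocallyNoetherian G.pU
  haveI : LocallyOfFinitePresentation G.s := LocProp.locallyOfFinitePresentation_of_isLocallyNoetherian G.s
  haveI : CompactSpace G.R := QuasiCompact.compactSpace_of_compactSpace G.s
  haveI : IsLocallyNoetherian G.R := LocallyOfFiniteType.isLocallyNoetherian G.s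
  haveI : IsNoetherian G.R := {}
  haveI : LocallyOfFiniteType G.t := by haveI := locallyOfFinitePresentation_t G; infer_instance
  obtain ⟨p, hp⟩ := hne
  obtain ⟨T, hT, hpT, -⟩ := exists_isAffineOpen_mem_and_subset (show G.pU p ∈ (⊤ : S.Opens) from trivial)
  obtain ⟨A, hA, hpA, hAle⟩ := exists_isAffineOpen_mem_and_subset (show p ∈ O₀ ⊓ G.pU ⁻¹ᵁ T from ⟨hp, hpT⟩)
  obtain ⟨z, hzA, hz⟩ := exists_closedInFibre G.pU A ⟨p, hpA⟩
  haveI : IsAffine (T : Scheme.{u}) := hT
  haveI : IsAffine (A : Scheme.{u}) := hA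
  haveI : IsLocallyNoetherian (T : Scheme.{u}) := inferInstance
  haveI : IsNoetherian (T : Scheme.{u}) := {}
  let Z := G.pU ⁻¹ᵁ T
  have htle : G.t ⁻¹ᵁ A ≤ G.s ⁻¹ᵁ Z := fun r hr => by
    show G.pU (G.s r) ∈ T
    rw [← Scheme.Hom.comp_apply, G.s_over, ← G.t_over, Scheme.Hom.comp_apply]
    exact (hAle hr).2
  let pX := G.pU.resLE T A (fun x hx => (hAle hx).2)
  let pZ := G.pU.resLE T Z le_rfl
  let uA := G.t ∣_ A
  let vA := G.s.resLE Z (G.t ⁻¹ᵁ A) htle
  let pY := uA ≫ pX
  have hv : vA ≫ pZ = pY := by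
    rw [← cancel_mono T.ι]
    simp only [vA, pZ, pY, uA, pX, Category.assoc, Scheme.Hom.resLE_comp_ι, Scheme.Hom.resLE_comp_ι_assoc,
      morphismRestrict_ι_assoc, G.s_over, G.t_over]
  haveI : LocallyOfFiniteType pX := by show LocallyOfFiniteType (G.pU.resLE T A _); infer_instance
  haveI : LocallyOfFiniteType pZ := by show LocallyOfFiniteType (G.pU.resLE T Z _); infer_instance
  haveI : QuasiCompact pX := quasiCompact_of_compactSpace pX
  haveI : LocallyOfFiniteType uA := IsZariskiLocalAtTarget.restrict ‹LocallyOfFiniteType G.t› A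
  haveI : LocallyOfFiniteType pY := inferInstanceAs (LocallyOfFiniteType (uA ≫ pX))
  haveI : CompactSpace ↥((G.t ⁻¹ᵁ A : G.R.Opens) : Scheme.{u}) :=
    isCompact_iff_compactSpace.mp (TopologicalSpace.NoetherianSpace.isCompact _)
  haveI : QuasiCompact pY := quasiCompact_of_compactSpace pY
  haveI : Flat vA := by show Flat (G.s.resLE Z (G.t ⁻¹ᵁ A) htle); infer_instance
  have hX : RelProj.IsQuasiProjective pX :=
    ⟨inferInstance, inferInstance, _, Ample.isRelAmple_of_isAmple pX (Ample.isQuasiAffine_iff.1 inferInstance)⟩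
  let zZ : (Z : Scheme.{u}) := ⟨z, (hAle hzA).2⟩
  have hzr : zZ ∈ Set.range vA := by
    refine ⟨⟨G.e z, show G.t (G.e z) ∈ A by rw [← Scheme.Hom.comp_apply, G.e_t]; exact hzA⟩, Subtype.ext ?_⟩
    show Z.ι (vA _) = z
    rw [← Scheme.Hom.comp_apply, Scheme.Hom.resLE_comp_ι, Scheme.Hom.comp_apply]
    show G.s (G.e z) = z
    rw [← Scheme.Hom.comp_apply, G.e_s]
    rfl
  have hpZ : ∀ a : (Z : Scheme.{u}), (pZ a).1 = G.pU a.1 := fun a => by
    show T.ι (pZ a) = _
    rw [← Scheme.Hom.comp_apply, Scheme.Hom.resLE_comp_ι]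
    rfl
  have hzc : ∀ z' : (Z : Scheme.{u}), z' ∈ closure ({zZ} : Set _) → pZ z' = pZ zZ → z' = zZ := fun z' h1 h2 =>
    Subtype.ext (hz z'.1 ((specializes_iff_mem_closure.2 h1).map Z.ι.continuous)
      (by rw [← hpZ, h2, hpZ]))
  obtain ⟨F, i, hi, hfin, hne, hfl⟩ := exists_cut_closed pX pY pZ uA vA hX rfl hv zZ hzr hzc
    fun y _ => Flat.stalkMap vA y
  haveI := hi
  haveI : IsAffine F := isAffine_of_isAffineHom i
  let u := i ≫ A.ι
  haveI : IsImmersion u := inferInstance
  haveI : CompactSpace F := inferInstance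
  let v := arrToS G u
  have sqψ := (IsPullback.of_hasPullback i uA).flip.paste_horiz (isPullback_morphismRestrict G.t A).flip
  let ψ := sqψ.isoPullback
  have hψ : ψ.hom ≫ v = (pullback.snd i uA ≫ vA) ≫ Z.ι := by
    show ψ.hom ≫ pullback.fst G.t u ≫ G.s = _
    rw [← Category.assoc, sqψ.isoPullback_hom_fst, Category.assoc, Category.assoc, Scheme.Hom.resLE_comp_ι]
  -- finitely many arrows over `z`
  have hE : (pullback.snd G.t u '' (v ⁻¹' {z})).Finite := by
    refine ((hfin.image A.ι).preimage u.isEmbedding.injective.injOn).subset ?_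
    rintro _ ⟨r, hr, rfl⟩
    have hru : G.t (pullback.fst G.t u r) = u (pullback.snd G.t u r) := by
      rw [← Scheme.Hom.comp_apply, pullback.condition, Scheme.Hom.comp_apply]
    have hrA : G.t (pullback.fst G.t u r) ∈ A := by
      rw [hru, Scheme.Hom.comp_apply]
      exact (i (pullback.snd G.t u r)).2
    let y : ↥((G.t ⁻¹ᵁ A : G.R.Opens) : Scheme.{u}) := ⟨pullback.fst G.t u r, hrA⟩
    have hy : uA y = i (pullback.snd G.t u r) := Subtype.ext ((morphismRestrict_base_coe _ _ _).trans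
      (hru.trans (Scheme.Hom.comp_apply _ _ _)))
    refine ⟨uA y, ⟨y, ⟨⟨pullback.snd G.t u r, hy.symm⟩, Subtype.ext ?_⟩, rfl⟩, ?_⟩
    · show Z.ι (vA y) = z
      rw [← Scheme.Hom.comp_apply, Scheme.Hom.resLE_comp_ι]
      exact hr
    · rw [hy, ← Scheme.Hom.comp_apply]
  have hfib := finite_fibre_arrToS G u z hz hE
  haveI : IsLocallyNoetherian (arrTo G u) := LocallyOfFiniteType.isLocallyNoetherian (pullback.fst G.t u)
  haveI : LocallyOfFiniteType v := by
    show LocallyOfFiniteType (pullback.fst G.t u ≫ G.s); infer_instance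
  haveI : LocallyOfFinitePresentation v := LocProp.locallyOfFinitePresentation_of_isLocallyNoetherian v
  obtain ⟨O, hO⟩ := exists_good G u
  -- a good point over `z`
  obtain ⟨_, y, ⟨⟨a, ha⟩, hyz⟩, rfl⟩ := hne
  obtain ⟨y', -, hy'⟩ := Scheme.Pullback.exists_preimage_pullback a y ha
  let r := ψ.hom y'
  have hrz : v r = z := by
    rw [← Scheme.Hom.comp_apply, hψ, Scheme.Hom.comp_apply, Scheme.Hom.comp_apply, hy']
    exact congrArg Subtype.val hyz
  have hflr : (v.stalkMap r).hom.Flat := by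
    have hl := hfl y' (by rw [hy']; exact hyz)
    have h1 : ((ψ.hom ≫ v).stalkMap y').hom.Flat := by
      rw [Scheme.Hom.stalkMap_congr_hom _ _ hψ y', Scheme.Hom.stalkMap_comp _ Z.ι]
      simp only [CommRingCat.hom_comp]
      exact ((RingHom.Flat.of_bijective (ConcreteCategory.bijective_of_isIso _)).comp
        ((RingHom.Flat.of_bijective (ConcreteCategory.bijective_of_isIso _)).comp hl))
    rw [Scheme.Hom.stalkMap_comp, CommRingCat.hom_comp] at h1
    exact (RingHom.Flat.respectsIso.cancel_right_isIso (v.stalkMap r) (ψ.hom.stalkMap y')).1 h1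
  have hrO : pullback.snd G.t u r ∈ O :=
    (hO r).2 ⟨hflr, GenFinite9.quasiFiniteAt_of_finite_fibre v (hrz.symm ▸ hfib)⟩
  -- shrink
  let u₁ := O.ι ≫ u
  let k : arrTo G u₁ ⟶ arrTo G u :=
    pullback.map G.t u₁ G.t u (𝟙 G.R) O.ι (𝟙 G.U) (by simp) (by simp [u₁])
  have hk1 : k ≫ pullback.fst G.t u = pullback.fst G.t u₁ :=
    (pullback.lift_fst _ _ _).trans (Category.comp_id _)
  have sqk : IsPullback k (pullback.snd G.t u₁) (pullback.snd G.t u) O.ι := by
    refine IsPullback.of_right ?_ (pullback.lift_snd _ _ _) (IsPullback.of_hasPullback G.t u)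
    rw [hk1]
    exact IsPullback.of_hasPullback G.t u₁
  haveI : IsOpenImmersion k := MorphismProperty.of_isPullback sqk.flip inferInstance
  have hk : k ≫ v = arrToS G u₁ := by
    show k ≫ pullback.fst G.t u ≫ G.s = _
    rw [← Category.assoc, hk1]; rfl
  have hgood : ∀ w, (v.stalkMap (k w)).hom.Flat ∧ v.QuasiFiniteAt (k w) := fun w => by
    refine (hO (k w)).1 ?_
    rw [← Scheme.Hom.comp_apply, sqk.w, Scheme.Hom.comp_apply]
    exact (pullback.snd G.t u₁ w).2
  have hflat : Flat (arrToS G u₁) := by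
    rw [← hk]
    refine Flat.of_stalkMap _ fun w => ?_
    rw [Scheme.Hom.stalkMap_comp, CommRingCat.hom_comp]
    exact (hgood w).1.comp (RingHom.Flat.of_bijective (ConcreteCategory.bijective_of_isIso _))
  have hqf : LocallyQuasiFinite (arrToS G u₁) := by
    rw [← hk, ← Scheme.Hom.quasiFiniteLocus_eq_top_iff, Scheme.Hom.quasiFiniteLocus_comp]
    exact top_le_iff.1 fun w _ => (hgood w).2
  obtain ⟨c, hc₁, -⟩ := Scheme.Pullback.exists_preimage_pullback (f := pullback.snd G.t u) (g := O.ι)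
    r ⟨_, hrO⟩ rfl
  have hkr : k (sqk.isoPullback.inv c) = r := by
    rw [← Scheme.Hom.comp_apply, sqk.isoPullback_inv_fst, hc₁]
  refine exists_qsData_of_flat G u O hflat hqf O₀ hO₀ (sqk.isoPullback.inv c) ?_
  rw [← hk, Scheme.Hom.comp_apply, hkr, hrz]
  exact (hAle hzA).1

/-- **Quasi-section data over a dense invariant open set.** -/
theorem exists_dense_qsData [IsNoetherian S] [Flat G.s] [LocallyOfFiniteType G.s] [QuasiCompact G.s]
    [LocallyOfFiniteType G.pU] [QuasiCompact G.pU] [LocallyQuasiFinite G.j] [LocallyOfFiniteType G.j] :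
    ∃ W : G.U.Opens, Dense (W : Set G.U) ∧ Nonempty (QSData G W) := by
  haveI : CompactSpace G.U := QuasiCompact.compactSpace_of_compactSpace G.pU
  haveI : IsLocallyNoetherian G.U := LocallyOfFiniteType.isLocallyNoetherian G.pU
  haveI : IsNoetherian G.U := {}
  haveI : LocallyOfFinitePresentation G.s := LocProp.locallyOfFinitePresentation_of_isLocallyNoetherian G.s
  haveI := flat_t G
  haveI := locallyOfFinitePresentation_t G
  have hbot : Nonempty (QSData G ⊥) := by
    let F₀ : G.U.Opens := ⊥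
    refine ⟨⟨_, F₀.ι, by simp, inferInstance, fun x => x.2, ?_, fun E hE => ⟨⊥, isAffineOpen_bot _, ?_⟩⟩⟩
    · haveI : IsEmpty ↥((⊥ : G.U.Opens) : Scheme.{u}) := ⟨fun x => x.2⟩
      haveI : IsEmpty ↥((arrToS G F₀.ι ⁻¹ᵁ (⊥ : G.U.Opens)) : Scheme.{u}) := ⟨fun x => x.2⟩
      haveI : IsIso (arrToS G F₀.ι ∣_ (⊥ : G.U.Opens)) := inferInstance
      exact FLS_of_isIso _
    · intro x _
      exact x.2.elim
  obtain ⟨W, hW, hmax⟩ := wellFounded_gt.has_min {W : G.U.Opens | Nonempty (QSData G W)} ⟨⊥, hbot⟩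
  refine ⟨W, ?_, hW⟩
  obtain ⟨D⟩ := hW
  rw [dense_iff_closure_eq]
  by_contra hne
  let O₀ : G.U.Opens := ⟨(closure (W : Set G.U))ᶜ, isClosed_closure.isOpen_compl⟩
  have hO₀ : G.s ⁻¹ᵁ O₀ = G.t ⁻¹ᵁ O₀ := by
    ext r
    show G.s r ∉ closure (W : Set G.U) ↔ G.t r ∉ closure (W : Set G.U)
    refine not_congr ?_
    rw [← Set.mem_preimage, G.s.isOpenMap.preimage_closure_eq_closure_preimage G.s.continuous,
      ← Set.mem_preimage (f := G.t), G.t.isOpenMap.preimage_closure_eq_closure_preimage G.t.continuous,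
      ← Scheme.Hom.coe_preimage, ← Scheme.Hom.coe_preimage, D.invariant]
  obtain ⟨W₂, hle, hne₂, ⟨D₂⟩⟩ := exists_qsData G O₀ hO₀ (by
    by_contra h
    exact hne (Set.compl_empty_iff.1 (Set.not_nonempty_iff_eq_empty.1 h)))
  have hd : Disjoint W W₂ := by
    refine TopologicalSpace.Opens.coe_disjoint.1 (Set.disjoint_left.2 fun x hx hx₂ => hle hx₂ (subset_closure hx))
  obtain ⟨x, hx⟩ := hne₂
  refine hmax (W ⊔ W₂) (QSData.sup G D D₂ hd) (lt_of_le_of_ne le_sup_left fun e => ?_)
  exact hle hx (subset_closure (e.symm ▸ (Or.inr hx : x ∈ W ⊔ W₂)))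

end GrothLib.QSecGen13
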