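import Groth.Agent.Lib.GrpdQuot.QuasiSection
import Mathlib.AlgebraicGeometry.Noetherian
import Mathlib.AlgebraicGeometry.Morphisms.FiniteType
import Mathlib.RingTheory.Adjoin.Tower
import Mathlib.RingTheory.Localization.Integral

/-!
# Artin–Tate: quotients are locally of finite type over a locally noetherian base
-/

set_option autoImplicit false
set_option linter.all false
set_option backward.isDefEq.respectTransparency false

universe u

open CategoryTheory CategoryTheory.Limits AlgebraicGeometry

noncomputable section

namespace GrothLib.QSecGen13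

/-- Artin–Tate for ring maps. -/
theorem finiteType_of_injective_integral {A B C : Type u} [CommRing A] [CommRing B] [CommRing C]
    [IsNoetherianRing A] (α : A →+* B) (ψ : B →+* C) (hinj : Function.Injective ψ) (hint : ψ.IsIntegral)
    (hft : (ψ.comp α).FiniteType) : α.FiniteType := by
  algebraize [α, ψ, ψ.comp α]
  haveI : Algebra.FiniteType B C := Algebra.FiniteType.of_restrictScalars_finiteType A B C
  haveI : Module.Finite B C := Algebra.IsIntegral.finite
  exact ⟨fg_of_fg_of_fg A B C Algebra.FiniteType.out Module.Finite.fg_top hinj⟩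

/-- Artin–Tate for morphisms from affine schemes. -/
theorem locallyOfFiniteType_of_injective_integral {B C : CommRingCat.{u}} (φ : B ⟶ C)
    (hinj : Function.Injective φ.hom) (hint : φ.hom.IsIntegral) {T : Scheme.{u}} [IsLocallyNoetherian T]
    (f : Spec B ⟶ T) (hf : LocallyOfFiniteType (Spec.map φ ≫ f)) : LocallyOfFiniteType f := by
  haveI := hf
  have key : ∀ y : Spec B, ∃ b : B, y ∈ PrimeSpectrum.basicOpen b ∧
      LocallyOfFiniteType (Spec.map (CommRingCat.ofHom (algebraMap B (Localization.Away b))) ≫ f) := by
    intro y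
    obtain ⟨V, hV, hyV, -⟩ := exists_isAffineOpen_mem_and_subset (show f y ∈ (⊤ : T.Opens) from trivial)
    obtain ⟨_, ⟨b, rfl⟩, hyb, hbV⟩ := PrimeSpectrum.isTopologicalBasis_basic_opens.exists_subset_of_mem_open
      (show y ∈ (f ⁻¹ᵁ V : Set (Spec B)) from hyV) (f ⁻¹ᵁ V).2
    refine ⟨b, hyb, ?_⟩
    let M := Submonoid.powers b
    let Cm := Localization (M.map φ.hom)
    haveI : IsLocalization.Away (φ.hom b) Cm := by
      rw [IsLocalization.Away, ← Submonoid.map_powers]; infer_instance
    haveI := IsOpenImmersion.of_isLocalization (R := C) (φ.hom b) (S := Cm)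
    let ψ : Localization M →+* Cm := IsLocalization.map Cm φ.hom M.le_comap_map
    let j := Spec.map (CommRingCat.ofHom (algebraMap B (Localization.Away b)))
    have hj : Set.range (j ≫ f) ⊆ Set.range hV.fromSpec := by
      rintro _ ⟨p, rfl⟩
      rw [IsAffineOpen.range_fromSpec, Scheme.Hom.comp_apply]
      exact hbV ((PrimeSpectrum.localization_away_comap_range (Localization.Away b) b).le ⟨p, rfl⟩)
    let g := IsOpenImmersion.lift hV.fromSpec (j ≫ f) hj
    have hg : g ≫ hV.fromSpec = j ≫ f := IsOpenImmersion.lift_fac _ _ _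
    have hsq : Spec.map (CommRingCat.ofHom ψ) ≫ j =
        Spec.map (CommRingCat.ofHom (algebraMap C Cm)) ≫ Spec.map φ := by
      rw [← Spec.map_comp, ← Spec.map_comp]
      congr 1
      exact CommRingCat.hom_ext (IsLocalization.map_comp (Q := Cm) M.le_comap_map)
    haveI : LocallyOfFiniteType (Spec.map (CommRingCat.ofHom ψ) ≫ g) := by
      have h : LocallyOfFiniteType ((Spec.map (CommRingCat.ofHom ψ) ≫ g) ≫ hV.fromSpec) := by
        rw [Category.assoc, hg, reassoc_of% hsq]
        infer_instance
      exact locallyOfFiniteType_of_comp _ hV.fromSpec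
    haveI : IsNoetherianRing Γ(T, V) := IsLocallyNoetherian.component_noetherian ⟨V, hV⟩
    have h1 : LocallyOfFiniteType (Spec.map (Spec.preimage g)) := by
      refine (HasRingHomProperty.Spec_iff (P := @LocallyOfFiniteType)).2 ?_
      refine finiteType_of_injective_integral _ ψ ?_ (isIntegral_localization' hint M) ?_
      · exact IsLocalization.map_injective_of_injective (M := M) (S := Localization M) (g := φ.hom) (Q := Cm) hinj
      · refine (HasRingHomProperty.Spec_iff (P := @LocallyOfFiniteType)
          (φ := Spec.preimage g ≫ CommRingCat.ofHom ψ)).1 ?_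
        rw [Spec.map_comp, Spec.map_preimage]
        infer_instance
    rw [Spec.map_preimage] at h1
    show LocallyOfFiniteType (j ≫ f)
    rw [← hg]
    infer_instance
  choose b hb hl using key
  refine IsZariskiLocalAtSource.of_openCover (P := @LocallyOfFiniteType)
    (Scheme.Cover.mkOfCovers (P := @IsOpenImmersion) (Spec B)
      (fun y => Spec (CommRingCat.of (Localization.Away (b y))))
      (fun y => Spec.map (CommRingCat.ofHom (algebraMap B (Localization.Away (b y)))))
      (fun y => ⟨y, (PrimeSpectrum.localization_away_comap_range (Localization.Away (b y)) (b y)).ge (hb y)⟩)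
      fun y => inferInstance) fun y => hl y

open GrothLib.GrpdQuot

variable {S : Scheme.{u}}

theorem locallyOfFiniteType_quotient (G : Grpd.GroupoidScheme S) [IsFinite G.s] [Flat G.s]
    [LocallyOfFinitePresentation G.s] (hG : Covered G) {T : Scheme.{u}} [IsLocallyNoetherian T]
    (q : quotient G ⟶ T) [LocallyOfFiniteType (quotientπ hG ≫ q)] : LocallyOfFiniteType q := by
  refine IsZariskiLocalAtSource.of_openCover (P := @LocallyOfFiniteType)
    (Scheme.IsLocallyDirected.openCover (diagram G)) fun i => ?_
  show LocallyOfFiniteType (chartι G i ≫ q)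
  have h : LocallyOfFiniteType (i.grpd.toQuot ≫ chartι G i ≫ q) := by
    show LocallyOfFiniteType (i.π ≫ chartι G i ≫ q)
    rw [← Category.assoc, ← ι_quotientπ hG i, Category.assoc]
    infer_instance
  rw [toQuot_eq, Category.assoc] at h
  haveI := h
  refine locallyOfFiniteType_of_injective_integral (CommRingCat.ofHom i.grpd.invariants.subtype)
    Subtype.val_injective (isIntegral_subtype i.grpd) (chartι G i ≫ q) ?_
  exact (MorphismProperty.cancel_left_of_respectsIso @LocallyOfFiniteType i.grpd.U.isoSpec.hom _).1 h

theorem locallyOfFiniteType_qsQuot (G : Grpd.GroupoidScheme S) {U' : Scheme.{u}} {u : U' ⟶ G.U} [Mono u]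
    (h : IsQuasiSection G u) {T : Scheme.{u}} [IsLocallyNoetherian T] (q : qsQuot h ⟶ T)
    [LocallyOfFiniteType (qsπ h ≫ q)] : LocallyOfFiniteType q :=
  haveI := h.finite_s
  haveI := h.flat_s
  haveI := h.fp_s
  haveI : LocallyOfFiniteType (quotientπ h.covered' ≫ q) := ‹_›
  locallyOfFiniteType_quotient (restrictMono G u) h.covered' q

end GrothLib.QSecGen13
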