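import Groth.Agent.Lib.QSecGen13.Step
import Groth.Agent.Lib.QSecGen13.FlatCutFP
import Groth.Agent.Lib.AmpleDesc.Rel
import Groth.Agent.Lib.AssPts.Filtration
import Groth.Agent.Lib.DimCut.FibreStalk
import Mathlib.AlgebraicGeometry.Morphisms.Finite
import Groth.Prelude.Def_RelProj

/-!
# Cutting a fibre to a finite set by a closed subscheme, keeping flatness, over any affine base
-/

set_option autoImplicit false
set_option linter.all false
set_option backward.isDefEq.respectTransparency false

universe u

open CategoryTheory CategoryTheory.Limits AlgebraicGeometry TopologicalSpace Opposite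

noncomputable section

namespace GrothLib.QSecGen13

open GrothLib.CartierDescent (stalkIdeal stalkIdeal_eq stalkIdeal_comap)

variable {T X Y Z : Scheme.{u}} (pX : X ⟶ T) (pY : Y ⟶ T) (pZ : Z ⟶ T) (u : Y ⟶ X) (v : Y ⟶ Z)

/-- **Cutting a fibre to a finite set**, without Noetherian hypotheses. -/
theorem exists_cut_closed_fp [IsAffine T] [LocallyOfFiniteType pY] [QuasiCompact pY]
    [LocallyOfFiniteType pZ] [QuasiSeparated pZ] [LocallyOfFinitePresentation v] (hX : RelProj.IsQuasiProjective pX) (hu : u ≫ pX = pY) (hv : v ≫ pZ = pY)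
    (z : Z) (hz : z ∈ Set.range v) (hzc : ∀ z' : Z, z' ∈ closure ({z} : Set Z) → pZ z' = pZ z → z' = z)
    (hflat : ∀ y : Y, v y = z → (v.stalkMap y).hom.Flat) :
    ∃ (F : Scheme.{u}) (i : F ⟶ X), IsClosedImmersion i ∧ LocallyOfFinitePresentation i ∧
      (cutImage u v (Set.range i) z).Finite ∧ (cutImage u v (Set.range i) z).Nonempty ∧
      ∀ y' : ↥(pullback i u), v (pullback.snd i u y') = z → ((pullback.snd i u ≫ v).stalkMap y').hom.Flat := by
  obtain ⟨hX₁, hX₂, L, hL⟩ := hX
  haveI := hX₁; haveI := hX₂
  have hamp := Ample.isAmple_of_isRelAmple_top hL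
  haveI : CompactSpace X := QuasiCompact.compactSpace_of_compactSpace pX
  haveI : QuasiCompact v := by
    haveI : QuasiCompact (v ≫ pZ) := hv ▸ inferInstance
    exact QuasiCompact.of_comp v pZ
  let s₀ := pZ z
  haveI : LocallyOfFiniteType (pullback.snd pX (T.fromSpecResidueField s₀)) :=
    MorphismProperty.pullback_snd _ _ hX₁
  haveI : QuasiCompact (pullback.snd pX (T.fromSpecResidueField s₀)) := MorphismProperty.pullback_snd _ _ hX₂
  haveI : IsLocallyNoetherian (pX.fiber s₀) :=
    LocallyOfFiniteType.isLocallyNoetherian (pullback.snd pX (T.fromSpecResidueField s₀))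
  haveI : CompactSpace (pX.fiber s₀) :=
    QuasiCompact.compactSpace_of_compactSpace (pullback.snd pX (T.fromSpecResidueField s₀))
  haveI : IsNoetherian (pX.fiber s₀) := {}
  suffices H : ∀ (C : Closeds (pX.fiber s₀)) (F : Scheme.{u}) (i : F ⟶ X), IsClosedImmersion i →
      LocallyOfFinitePresentation i → pX.fiberι s₀ ⁻¹' Set.range i = C →
      (cutImage u v (Set.range i) z).Nonempty →
      (∀ y' : ↥(pullback i u), v (pullback.snd i u y') = z → ((pullback.snd i u ≫ v).stalkMap y').hom.Flat) →
      ∃ (F : Scheme.{u}) (i : F ⟶ X), IsClosedImmersion i ∧ LocallyOfFinitePresentation i ∧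
        (cutImage u v (Set.range i) z).Finite ∧ (cutImage u v (Set.range i) z).Nonempty ∧
        ∀ y' : ↥(pullback i u), v (pullback.snd i u y') = z → ((pullback.snd i u ≫ v).stalkMap y').hom.Flat by
    obtain ⟨y, hy⟩ := hz
    refine H ⟨pX.fiberι s₀ ⁻¹' Set.range (𝟙 X : X ⟶ X),
      (𝟙 X : X ⟶ X).isClosedEmbedding.isClosed_range.preimage (pX.fiberι s₀).continuous⟩ X (𝟙 X) inferInstance inferInstance rfl
      ⟨u y, y, ⟨⟨u y, rfl⟩, hy⟩, rfl⟩ fun y' hy' => ?_
    rw [Scheme.Hom.stalkMap_comp, CommRingCat.hom_comp]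
    exact (hflat _ hy').comp (RingHom.Flat.of_bijective (ConcreteCategory.bijective_of_isIso
      ((pullback.snd (𝟙 X) u).stalkMap y')))
  intro C
  induction C using WellFoundedLT.induction with
  | ind C ih =>
    intro F i hi hlfp hC hne hfl
    by_cases hfin : (cutImage u v (Set.range i) z).Finite
    · exact ⟨F, i, hi, hlfp, hfin, hne, hfl⟩
    let vF := pullback.snd i u ≫ v
    let gF := pullback.fst i u ≫ i
    have hgF : ∀ y', gF y' = u (pullback.snd i u y') := fun y' =>
      congrArg (fun φ : pullback i u ⟶ X => φ y') (pullback.condition (f := i) (g := u))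
    haveI : LocallyOfFinitePresentation vF := inferInstanceAs (LocallyOfFinitePresentation (pullback.snd i u ≫ v))
    haveI : QuasiCompact vF := inferInstanceAs (QuasiCompact (pullback.snd i u ≫ v))
    let W := vF.fiber z
    haveI : LocallyOfFiniteType (pullback.snd vF (Z.fromSpecResidueField z)) :=
      MorphismProperty.pullback_snd _ _ inferInstance
    haveI : QuasiCompact (pullback.snd vF (Z.fromSpecResidueField z)) :=
      MorphismProperty.pullback_snd _ _ inferInstance
    haveI : IsLocallyNoetherian W :=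
      LocallyOfFiniteType.isLocallyNoetherian (pullback.snd vF (Z.fromSpecResidueField z))
    haveI : CompactSpace W := QuasiCompact.compactSpace_of_compactSpace (pullback.snd vF (Z.fromSpecResidueField z))
    haveI : IsNoetherian W := {}
    let A : Set W := {w | Mero.IsWA w}
    have hA : A.Finite := (Primary.finite_ass (Coh.structureModule W)
      (HomSh.isCoh_structureModule W)).subset fun w hw => (WeakAss.isAssPoint_iff_isWeakAssPoint w).2 hw
    let Q : Set X := (fun w => gF (vF.fiberι z w)) '' A
    have hQ : Q.Finite := hA.image _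
    obtain ⟨y₀, hy₀C, hy₀z, hy₀Q, hy₀c⟩ :=
      exists_closed_notMem pX pY pZ u v hu hv z hzc (Set.range i) i.isClosedEmbedding.isClosed_range Q hQ hfin
    have hQC : ∀ q ∈ Q, q ∈ Set.range i ∧ ¬ u y₀ ⤳ q := by
      rintro _ ⟨w, hw, rfl⟩
      refine ⟨⟨_, (Scheme.Hom.comp_apply _ _ _).symm⟩, fun h => hy₀Q ?_⟩
      have hb : ∀ y : Y, pX (u y) = pZ (v y) := fun y => by
        rw [← Scheme.Hom.comp_apply, ← Scheme.Hom.comp_apply, hu, hv]
      have he : gF (vF.fiberι z w) = u y₀ := by
        refine hy₀c _ h ?_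
        rw [hgF, hb, hb, hy₀z]
        exact congrArg pZ (DimCut.apply_fiberι vF z w)
      exact ⟨w, hw, he⟩
    obtain ⟨I, hI₀, hIQ, hIp⟩ := exists_affPrincipal_avoid hamp hQ (u y₀) fun q hq => (hQC q hq).2
    let j := (I.comap i).subschemeι
    let i' := j ≫ i
    have hr : Set.range i' = Set.range i ∩ I.support := by
      show Set.range (j ≫ i) = _
      rw [Scheme.Hom.comp_base, TopCat.coe_comp, Set.range_comp, Scheme.IdealSheafData.range_subschemeι,
        Scheme.IdealSheafData.support_comap, TopologicalSpace.Closeds.coe_preimage,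
        Set.image_preimage_eq_range_inter]
    haveI : Nonempty W := by
      obtain ⟨a, ha⟩ := hy₀C
      obtain ⟨y', -, hy'⟩ := Scheme.Pullback.exists_preimage_pullback a y₀ ha
      obtain ⟨w, -⟩ := (vF.range_fiberι z).ge (show vF y' = z by
        rw [Scheme.Hom.comp_apply, hy', hy₀z])
      exact ⟨w⟩
    have hA' : A.Nonempty := by
      obtain ⟨x, hx⟩ := QuasiSober.sober (isIrreducible_irreducibleComponent
        (x := Classical.arbitrary W)) isClosed_irreducibleComponent
      refine ⟨x, Mero.isWA_of_maximal fun y hy => ?_⟩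
      have hle : irreducibleComponent (Classical.arbitrary W) ⊆ closure {y} := by
        rw [← hx.def]
        exact closure_minimal (Set.singleton_subset_iff.2 hy.mem_closure) isClosed_closure
      have := (irreducibleComponent_mem_irreducibleComponents (Classical.arbitrary W)).2
        isIrreducible_singleton.closure hle
      have hxy : x ⤳ y := hx.specializes (this (subset_closure rfl))
      exact (hy.antisymm hxy).eq
    have hlt : (⟨pX.fiberι s₀ ⁻¹' Set.range i', by
        rw [hr]; exact (i.isClosedEmbedding.isClosed_range.inter I.support.isClosed).preimage (pX.fiberι s₀).continuous⟩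
        : Closeds (pX.fiber s₀)) < C := by
      refine lt_of_le_of_ne ?_ fun e => ?_
      · show pX.fiberι s₀ ⁻¹' Set.range i' ⊆ (C : Set (pX.fiber s₀))
        rw [hr, ← hC]
        exact Set.preimage_mono Set.inter_subset_left
      · obtain ⟨w, hw⟩ := hA'
        have hq : gF (vF.fiberι z w) ∈ Q := ⟨w, hw, rfl⟩
        have hqs : pX (gF (vF.fiberι z w)) = s₀ := by
          rw [hgF, ← Scheme.Hom.comp_apply, hu, ← hv, Scheme.Hom.comp_apply]
          exact congrArg pZ (DimCut.apply_fiberι vF z w)
        obtain ⟨x', hx'⟩ := (pX.range_fiberι s₀).ge (show gF (vF.fiberι z w) ∈ pX ⁻¹' {s₀} from hqs)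
        have h1 : x' ∈ (C : Set (pX.fiber s₀)) :=
          hC ▸ (show pX.fiberι s₀ x' ∈ Set.range i from hx'.symm ▸ (hQC _ hq).1)
        rw [← e] at h1
        exact hIQ _ hq (hx' ▸ (hr.le h1).2)
    haveI : LocallyOfFinitePresentation I.subschemeι := lfp_subschemeι_of_affPrincipal I hIp
    haveI : LocallyOfFinitePresentation j := by
      show LocallyOfFinitePresentation (I.comap i).subschemeι
      rw [← Scheme.IdealSheafData.comapIso_hom_fst I i]
      infer_instance
    refine ih _ hlt _ i' inferInstance inferInstance rfl ⟨u y₀, y₀, ⟨hr.ge ⟨hy₀C, hI₀⟩, hy₀z⟩, rfl⟩ ?_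
    intro y' hy'
    let k : pullback i' u ⟶ pullback i u :=
      pullback.map i' u i u j (𝟙 Y) (𝟙 X) (by simp [i']) (by simp)
    have hk1 : k ≫ pullback.snd i u = pullback.snd i' u := (pullback.lift_snd _ _ _).trans (Category.comp_id _)
    have hk2 : k ≫ pullback.fst i u = pullback.fst i' u ≫ j := pullback.lift_fst _ _ _
    have hsq : IsPullback k (pullback.fst i' u) (pullback.fst i u) j := by
      refine (IsPullback.of_bot ?_ hk2.symm (IsPullback.of_hasPullback i u)).flip
      rw [hk1]
      exact IsPullback.of_hasPullback i' u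
    haveI : IsClosedImmersion k := MorphismProperty.of_isPullback hsq.flip (inferInstanceAs (IsClosedImmersion j))
    have hker : k.ker = I.comap gF := by
      rw [← hsq.isoPullback_hom_fst, Scheme.Hom.ker_comp_of_isIso,
        Scheme.IdealSheafData.ker_fst_of_isClosedImmersion, Scheme.IdealSheafData.ker_subschemeι,
        ← Scheme.IdealSheafData.comap_comp]
    obtain ⟨U₀, f₀, hU₀, hI₀'⟩ := hIp (gF (k y'))
    obtain ⟨f, hf⟩ : ∃ f, stalkIdeal I (gF (k y')) = Ideal.span {f} :=
      ⟨_, by rw [stalkIdeal_eq I U₀ hU₀, hI₀', Ideal.map_span, Set.image_singleton]⟩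
    have hz' : vF (k y') = z := by
      rw [← Scheme.Hom.comp_apply]
      show (k ≫ pullback.snd i u ≫ v) y' = z
      rw [reassoc_of% hk1, Scheme.Hom.comp_apply]
      exact hy'
    have := flat_cut_fp vF k y' (hfl (k y') (by rw [← Scheme.Hom.comp_apply]; exact hz')) ((gF.stalkMap (k y')) f)
      (by rw [hker, stalkIdeal_comap, hf, Ideal.map_span, Set.image_singleton]) (by
        rw [hz']
        intro w hw hws
        rw [hker, Scheme.IdealSheafData.support_comap] at hws
        exact hIQ _ ⟨w, hw, rfl⟩ hws)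
    rw [← Category.assoc, hk1] at this
    exact this

end GrothLib.QSecGen13
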