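import Groth.Agent.Lib.QSecGen13.Proper
import Groth.Agent.Lib.QSecGen13.StepFP
import Groth.Agent.Lib.ProjQ9.Basic
import Groth.Agent.Lib.Ample.Finite
import Mathlib.AlgebraicGeometry.ZariskisMainTheorem

/-!
# Quasi-sections around a point when the source map is proper, over any base
-/

set_option autoImplicit false
set_option linter.all false
set_option backward.isDefEq.respectTransparency false
set_option maxHeartbeats 1000000

universe u

open CategoryTheory CategoryTheory.Limits AlgebraicGeometry TopologicalSpace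

noncomputable section

namespace GrothLib.QSecGen13

open GrothLib.GrpdQuot

variable {S : Scheme.{u}} (G : Grpd.GroupoidScheme S)

/-- Arrows into `F` from a point closed in its fibre, with finitely many targets, are finitely many. -/
theorem finite_fibre_arrToS_fp [QuasiCompact G.s] [LocallyOfFiniteType G.pU] [QuasiSeparated G.pU] [LocallyQuasiFinite G.j] [LocallyOfFiniteType G.j]
    {F : Scheme.{u}} (u : F ⟶ G.U) (z : G.U)
    (hz : ∀ z' : G.U, z ⤳ z' → G.pU z' = G.pU z → z' = z)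
    (h : (pullback.snd G.t u '' (arrToS G u ⁻¹' {z})).Finite) : (arrToS G u ⁻¹' {z}).Finite := by
  let Ψ : arrTo G u ⟶ pullback (u ≫ G.pU) G.pU :=
    pullback.lift (pullback.snd G.t u) (arrToS G u) (by
      rw [← Category.assoc, ← pullback.condition, arrToS, Category.assoc, Category.assoc, G.t_over, G.s_over])
  let m : pullback (u ≫ G.pU) G.pU ⟶ pullback G.pU G.pU :=
    pullback.map (u ≫ G.pU) G.pU G.pU G.pU u (𝟙 G.U) (𝟙 S) (by simp) (by simp)
  have hmf : IsPullback m (pullback.fst (u ≫ G.pU) G.pU) (pullback.fst G.pU G.pU) u := by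
    refine IsPullback.of_right ?_ (pullback.lift_fst _ _ _) (IsPullback.of_hasPullback G.pU G.pU).flip
    rw [show m ≫ pullback.snd G.pU G.pU = pullback.snd (u ≫ G.pU) G.pU from
      (pullback.lift_snd _ _ _).trans (Category.comp_id _)]
    exact (IsPullback.of_hasPullback (u ≫ G.pU) G.pU).flip
  have hΨ1 : Ψ ≫ pullback.fst (u ≫ G.pU) G.pU = pullback.snd G.t u := pullback.lift_fst _ _ _
  have hsq : IsPullback (pullback.fst G.t u) Ψ G.j m := by
    refine IsPullback.of_bot ?_ ?_ hmf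
    · rw [hΨ1, show G.j ≫ pullback.fst G.pU G.pU = G.t from pullback.lift_fst _ _ _]
      exact IsPullback.of_hasPullback G.t u
    · apply pullback.hom_ext
      · simp only [Grpd.GroupoidScheme.j, m, Category.assoc, pullback.lift_fst]
        rw [← Category.assoc, hΨ1, pullback.condition]
      · simp only [Grpd.GroupoidScheme.j, m, Ψ, Category.assoc, pullback.lift_snd, pullback.lift_snd_assoc,
          Category.comp_id]
        rfl
  haveI : LocallyQuasiFinite Ψ := MorphismProperty.of_isPullback hsq ‹LocallyQuasiFinite G.j›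
  haveI : LocallyOfFiniteType Ψ := MorphismProperty.of_isPullback hsq ‹LocallyOfFiniteType G.j›
  haveI : QuasiCompact G.t := by haveI := isIso_i G; rw [← G.i_s]; infer_instance
  haveI : QuasiCompact (Ψ ≫ pullback.fst (u ≫ G.pU) G.pU) := by
    rw [hΨ1]; exact MorphismProperty.pullback_snd _ _ ‹_›
  haveI : QuasiCompact Ψ := QuasiCompact.of_comp Ψ (pullback.fst (u ≫ G.pU) G.pU)
  refine (Ψ.finite_preimage (finite_pairs (u ≫ G.pU) G.pU z hz h)).subset fun r hr => ⟨⟨r, hr, ?_⟩, ?_⟩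
  · rw [← Scheme.Hom.comp_apply, hΨ1]
  · rw [← Scheme.Hom.comp_apply, show Ψ ≫ pullback.snd (u ≫ G.pU) G.pU = arrToS G u from pullback.lift_snd _ _ _]
    exact hr

/-- **Quasi-section data around a point closed in its fibre**, over any base. -/
theorem exists_qsData_of_proper_fp [IsProper G.s] [Flat G.s] [LocallyOfFinitePresentation G.s] [QuasiSeparated G.pU]
    (hU : RelProj.IsQuasiProjective G.pU) [LocallyQuasiFinite G.j] [LocallyOfFiniteType G.j]
    (z : G.U) (hz : ∀ z' : G.U, z ⤳ z' → G.pU z' = G.pU z → z' = z) :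
    ∃ W : G.U.Opens, z ∈ W ∧ ∃ D : QSData G W, LocallyOfFinitePresentation D.u := by
  haveI := hU.1
  haveI := hU.2.1
  haveI := flat_t G
  haveI := locallyOfFinitePresentation_t G
  haveI := isIso_i G
  haveI : QuasiCompact G.t := by rw [← G.i_s]; infer_instance
  obtain ⟨T, hT, hzT, -⟩ := exists_isAffineOpen_mem_and_subset (show G.pU z ∈ (⊤ : S.Opens) from trivial)
  haveI : IsAffine (T : Scheme.{u}) := hT
  let Z := G.pU ⁻¹ᵁ T
  have hinv : G.t ⁻¹ᵁ Z = G.s ⁻¹ᵁ Z := by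
    show G.t ⁻¹ᵁ (G.pU ⁻¹ᵁ T) = G.s ⁻¹ᵁ (G.pU ⁻¹ᵁ T)
    rw [← Scheme.Hom.comp_preimage, ← Scheme.Hom.comp_preimage, G.t_over, G.s_over]
  let pZ := G.pU.resLE T Z le_rfl
  have hZ : RelProj.IsQuasiProjective pZ := by
    have e : pZ = G.pU ∣_ T := Scheme.Hom.resLE_eq_morphismRestrict ..
    rw [e]
    exact ProjQ9.isQuasiProjective_restrict hU T hT
  haveI : LocallyOfFiniteType pZ := hZ.1
  haveI : QuasiCompact pZ := hZ.2.1
  haveI : CompactSpace ↥(Z : Scheme.{u}) := QuasiCompact.compactSpace_of_compactSpace pZ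
  let uA := G.t ∣_ Z
  let vA := G.s.resLE Z (G.t ⁻¹ᵁ Z) hinv.le
  haveI : IsProper vA := by
    have e : vA = (G.R.homOfLE hinv.le) ≫ (G.s ∣_ Z) := by
      rw [← cancel_mono Z.ι]
      simp [vA]
    haveI : IsIso (G.R.homOfLE hinv.le) := by
      haveI : Surjective (G.R.homOfLE hinv.le) := ⟨fun x => ⟨⟨x.1, hinv.ge x.2⟩, by
        apply (G.s ⁻¹ᵁ Z).ι.isOpenEmbedding.injective
        rw [← Scheme.Hom.comp_apply, Scheme.homOfLE_ι]
        rfl⟩⟩
      exact (isIso_iff_isOpenImmersion_and_surjective _).mpr ⟨inferInstance, inferInstance⟩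
    rw [e]
    haveI : IsProper (G.s ∣_ Z) := IsZariskiLocalAtTarget.restrict ‹IsProper G.s› Z
    infer_instance
  let pY := uA ≫ pZ
  have hv : vA ≫ pZ = pY := by
    rw [← cancel_mono T.ι]
    simp only [vA, pZ, pY, uA, Category.assoc, Scheme.Hom.resLE_comp_ι, Scheme.Hom.resLE_comp_ι_assoc,
      morphismRestrict_ι_assoc, G.s_over, G.t_over]
  haveI : LocallyOfFiniteType uA := IsZariskiLocalAtTarget.restrict (P := @LocallyOfFiniteType) inferInstance Z
  haveI : QuasiCompact uA := IsZariskiLocalAtTarget.restrict ‹QuasiCompact G.t› Z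
  haveI : LocallyOfFiniteType pY := inferInstanceAs (LocallyOfFiniteType (uA ≫ pZ))
  haveI : QuasiCompact pY := inferInstanceAs (QuasiCompact (uA ≫ pZ))
  haveI : LocallyOfFinitePresentation vA := by show LocallyOfFinitePresentation (G.s.resLE Z (G.t ⁻¹ᵁ Z) hinv.le); infer_instance
  haveI : QuasiSeparated pZ := by show QuasiSeparated (G.pU.resLE T Z le_rfl); infer_instance
  haveI : Flat vA := by show Flat (G.s.resLE Z (G.t ⁻¹ᵁ Z) hinv.le); infer_instance
  let zZ : (Z : Scheme.{u}) := ⟨z, hzT⟩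
  have hzr : zZ ∈ Set.range vA := by
    refine ⟨⟨G.e z, show G.t (G.e z) ∈ Z by rw [← Scheme.Hom.comp_apply, G.e_t]; exact hzT⟩, Subtype.ext ?_⟩
    show Z.ι (vA _) = z
    rw [← Scheme.Hom.comp_apply, Scheme.Hom.resLE_comp_ι, Scheme.Hom.comp_apply]
    show G.s (G.e z) = z
    rw [← Scheme.Hom.comp_apply, G.e_s]
    rfl
  have hpZ : ∀ a : (Z : Scheme.{u}), (pZ a).1 = G.pU a.1 := fun a => by
    show T.ι (pZ a) = _
    rw [← Scheme.Hom.comp_apply, Scheme.Hom.resLE_comp_ι]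
    rfl
  have hzc : ∀ z' : (Z : Scheme.{u}), z' ∈ closure ({zZ} : Set _) → pZ z' = pZ zZ → z' = zZ := fun z' h1 h2 =>
    Subtype.ext (hz z'.1 ((specializes_iff_mem_closure.2 h1).map Z.ι.continuous)
      (by rw [← hpZ, h2, hpZ]))
  obtain ⟨F, i, hi, hilfp, hfin, hne, hfl⟩ := exists_cut_closed_fp pZ pY pZ uA vA hZ rfl hv zZ hzr hzc
    fun y _ => Flat.stalkMap vA y
  haveI := hi
  haveI := hilfp
  let u := i ≫ Z.ι
  haveI : IsImmersion u := inferInstance
  haveI : LocallyOfFinitePresentation u := inferInstance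
  let v := arrToS G u
  have sqψ := (IsPullback.of_hasPullback i uA).flip.paste_horiz (isPullback_morphismRestrict G.t Z).flip
  let ψ := sqψ.isoPullback
  let vP := pullback.snd i uA ≫ vA
  haveI : IsProper vP := inferInstanceAs (IsProper (pullback.snd i uA ≫ vA))
  have hψ : ψ.hom ≫ v = vP ≫ Z.ι := by
    show ψ.hom ≫ pullback.fst G.t u ≫ G.s = _
    rw [← Category.assoc, sqψ.isoPullback_hom_fst, Category.assoc, Category.assoc, Scheme.Hom.resLE_comp_ι]
  have hE : (pullback.snd G.t u '' (v ⁻¹' {z})).Finite := by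
    refine ((hfin.image Z.ι).preimage u.isEmbedding.injective.injOn).subset ?_
    rintro _ ⟨r, hr, rfl⟩
    have hru : G.t (pullback.fst G.t u r) = u (pullback.snd G.t u r) := by
      rw [← Scheme.Hom.comp_apply, pullback.condition, Scheme.Hom.comp_apply]
    have hrA : G.t (pullback.fst G.t u r) ∈ Z := by
      rw [hru, Scheme.Hom.comp_apply]
      exact (i (pullback.snd G.t u r)).2
    let y : ↥((G.t ⁻¹ᵁ Z : G.R.Opens) : Scheme.{u}) := ⟨pullback.fst G.t u r, hrA⟩
    have hy : uA y = i (pullback.snd G.t u r) := Subtype.ext ((morphismRestrict_base_coe _ _ _).trans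
      (hru.trans (Scheme.Hom.comp_apply _ _ _)))
    refine ⟨uA y, ⟨y, ⟨⟨pullback.snd G.t u r, hy.symm⟩, Subtype.ext ?_⟩, rfl⟩, ?_⟩
    · show Z.ι (vA y) = z
      rw [← Scheme.Hom.comp_apply, Scheme.Hom.resLE_comp_ι]
      exact hr
    · rw [hy, ← Scheme.Hom.comp_apply]
  have hfib := finite_fibre_arrToS_fp G u z hz hE
  haveI : LocallyOfFinitePresentation v := by
    show LocallyOfFinitePresentation (pullback.fst G.t u ≫ G.s); infer_instance
  obtain ⟨O, hO⟩ := exists_good G u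
  let bad : Set (arrTo G u) := pullback.snd G.t u ⁻¹' (O : Set F)ᶜ
  have hbad : IsClosed bad := O.2.isClosed_compl.preimage (pullback.snd G.t u).continuous
  let Bad : Set (Z : Scheme.{u}) := vP '' (ψ.hom ⁻¹' bad)
  have hBad : IsClosed Bad := vP.isClosedMap _ (hbad.preimage ψ.hom.continuous)
  have hvψ : ∀ p, v (ψ.hom p) = Z.ι (vP p) := fun p => by
    rw [← Scheme.Hom.comp_apply, hψ, Scheme.Hom.comp_apply]
  have hzB : zZ ∉ Bad := by
    rintro ⟨p, hp, hpz⟩
    refine hp ((hO (ψ.hom p)).2 ⟨?_, ?_⟩)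
    · have hl := hfl p (by rw [← hpz]; rfl)
      have h1 : ((ψ.hom ≫ v).stalkMap p).hom.Flat := by
        rw [Scheme.Hom.stalkMap_congr_hom _ _ hψ p, Scheme.Hom.stalkMap_comp vP Z.ι]
        simp only [CommRingCat.hom_comp]
        exact ((RingHom.Flat.of_bijective (ConcreteCategory.bijective_of_isIso _)).comp
          ((RingHom.Flat.of_bijective (ConcreteCategory.bijective_of_isIso _)).comp hl))
      rw [Scheme.Hom.stalkMap_comp, CommRingCat.hom_comp] at h1
      exact (RingHom.Flat.respectsIso.cancel_right_isIso (v.stalkMap (ψ.hom p)) (ψ.hom.stalkMap p)).1 h1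
    · refine GenFinite9.quasiFiniteAt_of_finite_fibre v ?_
      rw [hvψ, hpz]
      exact hfib
  let O₂ : G.U.Opens := Z.ι ''ᵁ ⟨Badᶜ, hBad.isOpen_compl⟩
  have hO₂Z : O₂ ≤ Z := Z.ι_image_le _
  have hgood : ∀ r : arrTo G u, v r ∈ O₂ → (v.stalkMap r).hom.Flat ∧ v.QuasiFiniteAt r := by
    intro r hr
    refine (hO r).1 (not_not.1 fun hn => ?_)
    obtain ⟨w, hw, hwr⟩ := hr
    have hψr : ψ.hom (ψ.inv r) = r := by rw [← Scheme.Hom.comp_apply, Iso.inv_hom_id]; rfl
    refine hw ⟨ψ.inv r, show ψ.hom (ψ.inv r) ∈ bad from hψr.symm ▸ hn, ?_⟩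
    apply Z.ι.isOpenEmbedding.injective
    rw [← hvψ, hψr]
    exact hwr.symm
  let v₂ := v ∣_ O₂
  haveI : Flat v₂ := by
    refine Flat.of_stalkMap _ fun p => ?_
    exact (RingHom.Flat.respectsIso.arrow_mk_iso_iff (morphismRestrictStalkMap v O₂ p)).2 (hgood p.1 p.2).1
  haveI : LocallyOfFinitePresentation v₂ := IsZariskiLocalAtTarget.restrict ‹_› O₂
  let P : (O₂ : Scheme.{u}).Opens := ⟨Set.range v₂, v₂.isOpenMap.isOpen_range⟩
  let O₁ : G.U.Opens := O₂.ι ''ᵁ P
  have hO₁₂ : O₁ ≤ O₂ := O₂.ι_image_le _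
  have hzO₁ : z ∈ O₁ := by
    obtain ⟨_, y, ⟨⟨a, ha⟩, hyz⟩, rfl⟩ := hne
    obtain ⟨y', -, hy'⟩ := Scheme.Pullback.exists_preimage_pullback a y ha
    have hvp : vP y' = zZ := by
      rw [Scheme.Hom.comp_apply, hy']
      exact hyz
    have hr : v (ψ.hom y') = z := by rw [hvψ, hvp]; rfl
    have hz₂ : z ∈ O₂ := ⟨zZ, hzB, rfl⟩
    refine ⟨⟨z, hz₂⟩, ⟨⟨ψ.hom y', show v (ψ.hom y') ∈ O₂ from hr.symm ▸ hz₂⟩, Subtype.ext ?_⟩, rfl⟩
    exact (morphismRestrict_base_coe _ _ _).trans hr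
  have hO₁ : FLS (v ∣_ O₁) := by
    haveI : LocallyQuasiFinite ((v ⁻¹ᵁ O₂).ι ≫ v) := by
      rw [← Scheme.Hom.quasiFiniteLocus_eq_top_iff]
      refine top_le_iff.1 fun p _ => ?_
      rw [Scheme.Hom.quasiFiniteLocus_comp]
      exact (hgood p.1 p.2).2
    haveI : LocallyQuasiFinite (v₂ ≫ O₂.ι) := by
      show LocallyQuasiFinite (v ∣_ O₂ ≫ O₂.ι)
      rw [morphismRestrict_ι]; infer_instance
    haveI : LocallyQuasiFinite v₂ := LocallyQuasiFinite.of_comp v₂ O₂.ι
    haveI : IsProper v₂ := by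
      have h : IsProper (v ∣_ Z) := by
        have hrange : ∀ r, v r ∈ Z := fun r => by
          have e : r = ψ.hom (ψ.inv r) := by rw [← Scheme.Hom.comp_apply, Iso.inv_hom_id]; rfl
          rw [e, hvψ]
          exact (vP (ψ.inv r)).2
        haveI : Surjective (v ⁻¹ᵁ Z).ι := ⟨fun r => ⟨⟨r, hrange r⟩, rfl⟩⟩
        haveI : IsIso (v ⁻¹ᵁ Z).ι := (isIso_iff_isOpenImmersion_and_surjective _).mpr ⟨inferInstance, inferInstance⟩
        have e2 : v ∣_ Z = ((v ⁻¹ᵁ Z).ι ≫ ψ.inv) ≫ vP := by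
          rw [← cancel_mono Z.ι, morphismRestrict_ι, Category.assoc, Category.assoc, ← hψ, Iso.inv_hom_id_assoc]
        rw [e2]
        haveI : IsIso ((v ⁻¹ᵁ Z).ι ≫ ψ.inv) := inferInstance
        exact (MorphismProperty.cancel_left_of_respectsIso @IsProper _ vP).2 inferInstance
      have h2 := IsZariskiLocalAtTarget.restrict (P := @IsProper) h (Z.ι ⁻¹ᵁ O₂)
      rw [MorphismProperty.arrow_mk_iso_iff @IsProper (morphismRestrictRestrict v Z (Z.ι ⁻¹ᵁ O₂))] at h2
      rwa [show Z.ι ''ᵁ (Z.ι ⁻¹ᵁ O₂) = O₂ by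
        rw [Scheme.Hom.image_preimage_eq_opensRange_inf, Scheme.Opens.opensRange_ι]
        exact inf_eq_right.mpr hO₂Z] at h2
    have hfinite : IsFinite v₂ := IsFinite.of_isProper_of_locallyQuasiFinite v₂
    have hsur : Surjective (v₂ ∣_ P) := ⟨fun q => by
      obtain ⟨r, hr⟩ := q.2
      exact ⟨⟨r, show v₂ r ∈ P from hr.symm ▸ q.2⟩, Subtype.ext ((morphismRestrict_base_coe _ _ _).trans hr)⟩⟩
    have h3 : FLS (v₂ ∣_ P) := ⟨IsZariskiLocalAtTarget.restrict hfinite P, IsZariskiLocalAtTarget.restrict ‹Flat v₂› P,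
      IsZariskiLocalAtTarget.restrict ‹LocallyOfFinitePresentation v₂› P, hsur⟩
    exact (MorphismProperty.arrow_mk_iso_iff FLS (morphismRestrictRestrict v O₂ P)).1 h3
  let W := satOpen G O₁
  have hW := satOpen_invariant G O₁
  let F₂ : F.Opens := u ⁻¹ᵁ W
  let u₂ := F₂.ι ≫ u
  have h2 : FLS (arrToS G u₂ ∣_ W) := by
    refine (FLS_congr G u F₂.ι u₂ rfl W hW fun x hx => ?_).2 (FLS_satOpen G u O₁ hO₁)
    rw [Scheme.Opens.range_ι]
    exact hx
  haveI : IsImmersion u₂ := inferInstance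
  have hr : ∀ x : (F₂ : Scheme.{u}), u₂ x ∈ W := fun x => x.2
  have hu₂ : LocallyOfFinitePresentation u₂ := inferInstance
  refine ⟨W, le_satOpen G O₁ hzO₁, ⟨_, u₂, hW, inferInstance, hr, h2, fun E hE => ?_⟩, hu₂⟩
  have hfinE : E.Finite := finite_equiv G u₂ W h2 E (fun x _ => hr x) hE
  obtain ⟨L, hL⟩ := hZ.2.2
  have hamp : CohB1.IsAmple L := Ample.isAmple_of_isRelAmple_top hL
  let j := F₂.ι ≫ i
  haveI : IsImmersion j := inferInstance
  obtain ⟨N, hN, hjN⟩ : ∃ N : (Z : Scheme.{u}).Opens, IsClosed (Set.range j ∪ (N : Set (Z : Scheme.{u}))ᶜ) ∧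
      Set.range j ⊆ N := by
    obtain ⟨C, hC, hF⟩ : ∃ C : Set (Z : Scheme.{u}), IsClosed C ∧ C = i '' (F₂ : Set F)ᶜ :=
      ⟨_, i.isClosedEmbedding.isClosedMap _ F₂.2.isClosed_compl, rfl⟩
    refine ⟨⟨Cᶜ, hC.isOpen_compl⟩, ?_, ?_⟩
    · show IsClosed (Set.range j ∪ Cᶜᶜ)
      rw [compl_compl, hF, Scheme.Hom.comp_base, TopCat.coe_comp, Set.range_comp, Scheme.Opens.range_ι,
        ← Set.image_union, Set.union_compl_self, Set.image_univ]
      exact i.isClosedEmbedding.isClosed_range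
    · rintro _ ⟨x, rfl⟩ hx
      rw [hF] at hx
      obtain ⟨x', hx', he⟩ := hx
      rw [Scheme.Hom.comp_apply] at he
      exact hx' (i.isClosedEmbedding.injective he ▸ x.2)
  obtain ⟨V, hV, hEV, hVN⟩ := exists_affine_of_finite_ample hamp (hfinE.image j) (U := N)
    (fun _ ⟨x, _, hx⟩ => hjN ⟨x, hx⟩)
  refine ⟨j ⁻¹ᵁ V, ?_, fun x hx => hEV ⟨x, hx, rfl⟩⟩
  haveI : IsClosedImmersion (j ∣_ V) := by
    refine IsClosedImmersion.of_isPreimmersion _ ?_
    have e : Set.range (j ∣_ V) = V.ι ⁻¹' (Set.range j ∪ (N : Set (Z : Scheme.{u}))ᶜ) := by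
      ext y
      constructor
      · rintro ⟨x, rfl⟩
        exact Or.inl ⟨x.1, (morphismRestrict_base_coe _ _ _).symm⟩
      · rintro (⟨x, hx⟩ | hn)
        · exact ⟨⟨x, show j x ∈ V from hx.symm ▸ y.2⟩, Subtype.ext ((morphismRestrict_base_coe _ _ _).trans hx)⟩
        · exact absurd (hVN y.2) hn
    rw [e]
    exact hN.preimage V.ι.continuous
  haveI : IsAffine (V : Scheme.{u}) := hV
  exact isAffine_of_isAffineHom (j ∣_ V)

end GrothLib.QSecGen13
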