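import Groth.Agent.Lib.QSecGen13.Transl
import Groth.Agent.Lib.GrpdQuot.QuasiSection
import Groth.Agent.Lib.GrpdQuot.FiniteAffine
import Groth.Agent.Lib.GrpdQuot.Invariant
import Groth.Agent.Lib.AlgSp.AffineDescent
import Groth.Agent.Lib.AlgSp.FppfDescent

/-!
# Saturating and combining quasi-sections over open sets
-/

set_option autoImplicit false
set_option linter.all false
set_option backward.isDefEq.respectTransparency false

universe u

open CategoryTheory CategoryTheory.Limits AlgebraicGeometry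

noncomputable section

namespace GrothLib.QSecGen13

open GrothLib.GrpdQuot

/-- Finite, flat, locally of finite presentation and surjective. -/
def FLS : MorphismProperty Scheme.{u} :=
  @IsFinite ⊓ (@Flat ⊓ (@LocallyOfFinitePresentation ⊓ @Surjective))

instance : (FLS.{u}).IsStableUnderBaseChange := by unfold FLS; infer_instance

instance : IsZariskiLocalAtTarget FLS.{u} := by unfold FLS; infer_instance

theorem FLS_of_isIso {X Y : Scheme.{u}} (f : X ⟶ Y) [IsIso f] : FLS f :=
  ⟨inferInstance, inferInstance, inferInstance, inferInstance⟩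

theorem fppfDescends_FLS : AlgSp.FppfDescends FLS.{u} :=
  fun _ _ _ _ f c c' f' sq hf hp hs h =>
    ⟨AlgSp.fppfDescends_isFinite f c c' f' sq hf hp hs h.1, AlgSp.fppfDescends_flat f c c' f' sq hf hp hs h.2.1,
      AlgSp.fppfDescends_lfp f c c' f' sq hf hp hs h.2.2.1,
      AlgSp.fppfDescends_surjective f c c' f' sq hf hp hs h.2.2.2⟩

variable {S : Scheme.{u}} (G : Grpd.GroupoidScheme S) {F : Scheme.{u}} (u : F ⟶ G.U)

/-- The saturation of an open set. -/
def satOpen [Flat G.s] [LocallyOfFinitePresentation G.s] (O : G.U.Opens) : G.U.Opens :=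
  haveI := flat_t G
  haveI := locallyOfFinitePresentation_t G
  ⟨sat G O, G.t.isOpenMap _ (O.2.preimage G.s.continuous)⟩

theorem satOpen_invariant [Flat G.s] [LocallyOfFinitePresentation G.s] (O : G.U.Opens) :
    G.s ⁻¹ᵁ satOpen G O = G.t ⁻¹ᵁ satOpen G O :=
  TopologicalSpace.Opens.ext (preimage_sat G (O : Set G.U))

theorem le_satOpen [Flat G.s] [LocallyOfFinitePresentation G.s] (O : G.U.Opens) : O ≤ satOpen G O :=
  fun x hx => subset_sat G (O : Set G.U) hx

/-- **The properties over an open set spread to its saturation.** -/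
theorem FLS_satOpen [Flat G.s] [LocallyOfFinitePresentation G.s] (O : G.U.Opens)
    (h : FLS (arrToS G u ∣_ O)) : FLS (arrToS G u ∣_ satOpen G O) := by
  haveI := flat_t G
  haveI := locallyOfFinitePresentation_t G
  let W := satOpen G O
  let R₁ := G.s ⁻¹ᵁ O
  let v := arrToS G u
  have hle : R₁ ≤ G.t ⁻¹ᵁ W := fun r hr => ⟨r, hr, rfl⟩
  let c : (R₁ : Scheme.{u}) ⟶ (W : Scheme.{u}) := G.t.resLE W R₁ hle
  have hc : c ≫ W.ι = R₁.ι ≫ G.t := Scheme.Hom.resLE_comp_ι _ _
  haveI : Surjective c := ⟨fun w => by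
    obtain ⟨r, hr, hrw⟩ := w.2
    refine ⟨⟨r, hr⟩, Subtype.ext ?_⟩
    have := congrArg (fun φ : (R₁ : Scheme.{u}) ⟶ G.U => φ ⟨r, hr⟩) hc
    exact this.trans hrw⟩
  haveI : Flat c := by
    show Flat (G.t.resLE W R₁ hle); infer_instance
  haveI : LocallyOfFinitePresentation c := by
    show LocallyOfFinitePresentation (G.t.resLE W R₁ hle); infer_instance
  have sqt := IsPullback.of_hasPullback v G.t
  have sqs : IsPullback (shift G u ≫ pullback.fst v G.s) (pullback.snd v G.t) v G.s :=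
    (IsPullback.of_hasPullback v G.s).of_iso (asIso (shift G u)).symm (Iso.refl _) (Iso.refl _)
      (Iso.refl _) (by simp [v]) (by simp [v, ← shift_snd]) (by simp) (by simp)
  have sqK := IsPullback.of_hasPullback (pullback.snd v G.t) R₁.ι
  have Kt := sqK.paste_horiz sqt
  have Ks := sqK.paste_horiz sqs
  -- to the restriction over `O`
  have hsO : (G.s ∣_ O) ≫ O.ι = R₁.ι ≫ G.s := morphismRestrict_ι _ _
  have mO := (isPullback_morphismRestrict v O).flip
  let aS := mO.lift _ (pullback.snd (pullback.snd v G.t) R₁.ι ≫ (G.s ∣_ O))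
    (Ks.w.trans (by rw [Category.assoc, hsO]))
  have sqS : IsPullback aS (pullback.snd (pullback.snd v G.t) R₁.ι) (v ∣_ O) (G.s ∣_ O) := by
    refine IsPullback.of_right ?_ (mO.lift_snd _ _ _) mO
    rw [mO.lift_fst, hsO]
    exact Ks
  have hl : FLS (pullback.snd (pullback.snd v G.t) R₁.ι) := MorphismProperty.of_isPullback sqS h
  have mW := (isPullback_morphismRestrict v W).flip
  let aT := mW.lift _ (pullback.snd (pullback.snd v G.t) R₁.ι ≫ c)
    (Kt.w.trans (by rw [Category.assoc, hc]))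
  have sqT : IsPullback aT (pullback.snd (pullback.snd v G.t) R₁.ι) (v ∣_ W) c := by
    refine IsPullback.of_right ?_ (mW.lift_snd _ _ _) mW
    rw [mW.lift_fst, hc]
    exact Kt
  exact fppfDescends_FLS _ c _ _ sqT inferInstance inferInstance inferInstance hl

/-- Changing the scheme of targets outside an invariant open set. -/
theorem FLS_congr {F₁ : Scheme.{u}} (j : F₁ ⟶ F) [IsOpenImmersion j] (u₁ : F₁ ⟶ G.U) (hu : j ≫ u = u₁)
    (W : G.U.Opens) (hW : G.s ⁻¹ᵁ W = G.t ⁻¹ᵁ W) (hj : ∀ x : F, u x ∈ W → x ∈ Set.range j)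
    : FLS (arrToS G u₁ ∣_ W) ↔ FLS (arrToS G u ∣_ W) := by
  subst hu
  let k : arrTo G (j ≫ u) ⟶ arrTo G u :=
    pullback.map G.t (j ≫ u) G.t u (𝟙 G.R) j (𝟙 G.U) (by simp) (by simp)
  have hk1 : k ≫ pullback.fst G.t u = pullback.fst G.t (j ≫ u) :=
    (pullback.lift_fst _ _ _).trans (Category.comp_id _)
  have hk2 : k ≫ pullback.snd G.t u = pullback.snd G.t (j ≫ u) ≫ j := pullback.lift_snd _ _ _
  have sq : IsPullback k (pullback.snd G.t (j ≫ u)) (pullback.snd G.t u) j := by
    refine IsPullback.of_right ?_ hk2 (IsPullback.of_hasPullback G.t u)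
    rw [hk1]
    exact IsPullback.of_hasPullback G.t (j ≫ u)
  haveI : IsOpenImmersion k := MorphismProperty.of_isPullback sq.flip ‹IsOpenImmersion j›
  have hv : k ≫ arrToS G u = arrToS G (j ≫ u) := by
    rw [arrToS, ← Category.assoc, hk1]; rfl
  let Q := arrToS G u ⁻¹ᵁ W
  haveI : Surjective (k ∣_ Q) := ⟨fun p => by
    have hp : G.s (pullback.fst G.t u p.1) ∈ W := p.2
    have hp' : pullback.fst G.t u p.1 ∈ G.s ⁻¹ᵁ W := hp
    rw [hW] at hp'
    have hq : u (pullback.snd G.t u p.1) ∈ W := by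
      rw [← Scheme.Hom.comp_apply, ← pullback.condition, Scheme.Hom.comp_apply]
      exact hp'
    obtain ⟨b, hb⟩ := hj _ hq
    obtain ⟨c, hc₁, -⟩ := Scheme.Pullback.exists_preimage_pullback (f := pullback.snd G.t u) (g := j) p.1 b hb.symm
    have hka : k (sq.isoPullback.inv c) = p.1 := by
      rw [← Scheme.Hom.comp_apply, sq.isoPullback_inv_fst, hc₁]
    exact ⟨⟨sq.isoPullback.inv c, show k (sq.isoPullback.inv c) ∈ Q from hka.symm ▸ p.2⟩,
      Subtype.ext ((morphismRestrict_base_coe _ _ _).trans hka)⟩⟩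
  haveI : IsIso (k ∣_ Q) :=
    (isIso_iff_isOpenImmersion_and_surjective _).mpr ⟨inferInstance, inferInstance⟩
  rw [← hv, morphismRestrict_comp]
  exact MorphismProperty.cancel_left_of_respectsIso FLS (k ∣_ Q) _

/-- Quasi-section data over an invariant open set. -/
structure QSData (W : G.U.Opens) : Type (u + 1) where
  F : Scheme.{u}
  u : F ⟶ G.U
  invariant : G.s ⁻¹ᵁ W = G.t ⁻¹ᵁ W
  immersion : IsImmersion u
  range_le : ∀ x : F, u x ∈ W
  fls : FLS (arrToS G u ∣_ W)
  covered : ∀ E : Set F, (∀ x ∈ E, ∀ y ∈ E, ∃ r : G.R, G.t r = u x ∧ G.s r = u y) →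
    ∃ V : F.Opens, IsAffineOpen V ∧ E ⊆ (V : Set F)

/-- Pairwise equivalent points of a quasi-affine quasi-section lie in an affine open. -/
theorem covered_of_isQuasiAffine [IsImmersion u] [F.IsQuasiAffine] (W : G.U.Opens) (hu : ∀ x : F, u x ∈ W)
    (h : FLS (arrToS G u ∣_ W)) (E : Set F)
    (hE : ∀ x ∈ E, ∀ y ∈ E, ∃ r : G.R, G.t r = u x ∧ G.s r = u y) :
    ∃ V : F.Opens, IsAffineOpen V ∧ E ⊆ (V : Set F) := by
  refine exists_affineOpen_of_finite_of_quasiAffine E ?_
  rcases E.eq_empty_or_nonempty with rfl | ⟨x₀, hx₀⟩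
  · exact Set.finite_empty
  haveI : IsFinite (arrToS G u ∣_ W) := h.1
  have hf : ((arrToS G u ∣_ W) ⁻¹' {⟨u x₀, hu x₀⟩}).Finite :=
    (arrToS G u ∣_ W).finite_preimage_singleton _
  refine (hf.image fun p => pullback.snd G.t u p.1).subset fun y hy => ?_
  obtain ⟨r, hrt, hrs⟩ := hE y hy x₀ hx₀
  obtain ⟨a, ha₁, ha₂⟩ := Scheme.Pullback.exists_preimage_pullback r y hrt
  have ha : arrToS G u a = u x₀ := by
    show (pullback.fst G.t u ≫ G.s) a = _
    rw [Scheme.Hom.comp_apply, ha₁, hrs]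
  exact ⟨⟨a, show arrToS G u a ∈ W from ha ▸ hu x₀⟩,
    Subtype.ext ((morphismRestrict_base_coe _ _ _).trans ha), ha₂⟩

end GrothLib.QSecGen13
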