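import Groth.Agent.Lib.GrpdQuot.RestrictMono
import Groth.Agent.Lib.GrpdQuot.Restrict
import Groth.Agent.Lib.CMMor6.BaseChange
import Groth.Agent.Lib.AlgSp.SliceLemmas
import Groth.Agent.Lib.FibreFlat.OpenScheme

/-!
# Translation invariance of the behaviour of the source map on arrows into a subscheme
-/

set_option autoImplicit false
set_option linter.all false
set_option backward.isDefEq.respectTransparency false

universe u

open CategoryTheory CategoryTheory.Limits AlgebraicGeometry

noncomputable section

namespace GrothLib.QSecGen13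

open GrothLib.GrpdQuot
open GrothLib.GrpSchField (cmp cmp_congr comp_cmp)

variable {S : Scheme.{u}} (G : Grpd.GroupoidScheme S) {F : Scheme.{u}} (u : F ⟶ G.U)

/-- Composition with an arrow. -/
def shift : pullback (arrToS G u) G.t ⟶ pullback (arrToS G u) G.s :=
  pullback.lift
    (pullback.lift
      (cmp G (pullback.fst (arrToS G u) G.t ≫ pullback.fst G.t u) (pullback.snd (arrToS G u) G.t)
        (by rw [Category.assoc]; exact pullback.condition))
      (pullback.fst (arrToS G u) G.t ≫ pullback.snd G.t u)
      (by rw [cmp_t, Category.assoc, Category.assoc, pullback.condition]))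
    (pullback.snd (arrToS G u) G.t)
    ((Category.assoc _ _ _).symm.trans ((congrArg (· ≫ G.s) (pullback.lift_fst _ _ _)).trans (cmp_s _ _ _ _)))

/-- Composition with the inverse arrow. -/
def unshift : pullback (arrToS G u) G.s ⟶ pullback (arrToS G u) G.t :=
  pullback.lift
    (pullback.lift
      (cmp G (pullback.fst (arrToS G u) G.s ≫ pullback.fst G.t u) (pullback.snd (arrToS G u) G.s ≫ G.i)
        (by rw [Category.assoc, Category.assoc, G.i_t]; exact pullback.condition))
      (pullback.fst (arrToS G u) G.s ≫ pullback.snd G.t u)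
      (by rw [cmp_t, Category.assoc, Category.assoc, pullback.condition]))
    (pullback.snd (arrToS G u) G.s)
    ((Category.assoc _ _ _).symm.trans ((congrArg (· ≫ G.s) (pullback.lift_fst _ _ _)).trans (by rw [cmp_s, Category.assoc, G.i_s])))

theorem shift_snd : shift G u ≫ pullback.snd (arrToS G u) G.s = pullback.snd (arrToS G u) G.t :=
  pullback.lift_snd _ _ _

theorem comp_inv_cancel {T : Scheme.{u}} (α β : T ⟶ G.R) (h : α ≫ G.s = β ≫ G.t)
    (h' : cmp G α β h ≫ G.s = (β ≫ G.i) ≫ G.t) : cmp G (cmp G α β h) (β ≫ G.i) h' = α := by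
  have h2 : β ≫ G.s = (β ≫ G.i) ≫ G.t := by rw [Category.assoc, G.i_t]
  show pullback.lift (pullback.lift α β h ≫ G.c) (β ≫ G.i) _ ≫ G.c = α
  rw [G.assoc α β (β ≫ G.i) h h2]
  refine (cmp_congr G (h.trans (G.comp_t _ _ h2).symm) rfl ((G.comp_i β).trans ?_)).trans (G.comp_e α)
  rw [reassoc_of% h]

instance isIso_shift : IsIso (shift G u) := by
  refine ⟨unshift G u, ?_, ?_⟩
  · apply pullback.hom_ext
    · apply pullback.hom_ext
      · simp only [unshift, Category.id_comp, Category.assoc, pullback.lift_fst]
        rw [comp_cmp]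
        refine (cmp_congr G _ ?_ ?_).trans (comp_inv_cancel G _ (pullback.snd (arrToS G u) G.t) ?_ ?_)
        · simp only [shift, pullback.lift_fst_assoc, pullback.lift_fst]
        · rw [← Category.assoc, shift_snd]
        · rw [Category.assoc]; exact pullback.condition
        · rw [cmp_s, Category.assoc, G.i_t]
      · simp only [unshift, shift, Category.id_comp, Category.assoc, pullback.lift_snd, pullback.lift_fst,
          pullback.lift_fst_assoc, pullback.lift_snd_assoc]
    · simp only [unshift, shift, Category.id_comp, Category.assoc, pullback.lift_snd]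
  · apply pullback.hom_ext
    · apply pullback.hom_ext
      · simp only [shift, Category.id_comp, Category.assoc, pullback.lift_fst]
        rw [comp_cmp]
        refine (cmp_congr G _ ?_ ?_).trans
          (comp_inv_cancel G _ (pullback.snd (arrToS G u) G.s ≫ G.i) ?_ ?_)
        · simp only [unshift, pullback.lift_fst_assoc, pullback.lift_fst]
        · simp only [unshift, pullback.lift_snd, Category.assoc, i_i, Category.comp_id]
        · rw [Category.assoc, Category.assoc, G.i_t]; exact pullback.condition
        · rw [cmp_s, Category.assoc, Category.assoc, Category.assoc, G.i_t]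
      · simp only [unshift, shift, Category.id_comp, Category.assoc, pullback.lift_snd, pullback.lift_fst,
          pullback.lift_fst_assoc, pullback.lift_snd_assoc]
    · simp only [unshift, shift, Category.id_comp, Category.assoc, pullback.lift_snd]

/-- The unit arrows into `F`. -/
def unitTo : F ⟶ arrTo G u :=
  pullback.lift (u ≫ G.e) (𝟙 F) (by rw [Category.assoc, G.e_t, Category.comp_id, Category.id_comp])

theorem unitTo_snd : unitTo G u ≫ pullback.snd G.t u = 𝟙 F := pullback.lift_snd _ _ _

/-- The graph of an arrow over its unit. -/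
def graph : arrTo G u ⟶ pullback (arrToS G u) G.t :=
  pullback.lift (pullback.snd G.t u ≫ unitTo G u) (pullback.fst G.t u)
    (by
      rw [Category.assoc, unitTo, arrToS, pullback.lift_fst_assoc, Category.assoc, G.e_s, Category.comp_id,
        pullback.condition])

theorem graph_fst : graph G u ≫ pullback.fst (arrToS G u) G.t = pullback.snd G.t u ≫ unitTo G u :=
  pullback.lift_fst _ _ _

theorem graph_shift_fst : graph G u ≫ shift G u ≫ pullback.fst (arrToS G u) G.s = 𝟙 (arrTo G u) := by
  apply pullback.hom_ext
  · simp only [shift, Category.id_comp, Category.assoc, pullback.lift_fst]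
    rw [comp_cmp]
    refine (cmp_congr G _ ?_ ?_).trans (G.e_comp (pullback.fst G.t u))
    · simp only [graph, unitTo, pullback.lift_fst_assoc, pullback.lift_fst, Category.assoc]
      rw [← pullback.condition_assoc]
    · exact pullback.lift_snd _ _ _
  · simp only [shift, graph, unitTo, Category.id_comp, Category.assoc, pullback.lift_snd, pullback.lift_fst,
      pullback.lift_fst_assoc, Category.comp_id]

variable [Flat G.s]

/-- **Flatness is constant along the targets.** -/
theorem flat_at_iff_unit (r : arrTo G u) :
    ((arrToS G u).stalkMap r).hom.Flat ↔ ((arrToS G u).stalkMap (unitTo G u (pullback.snd G.t u r))).hom.Flat := by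
  haveI := flat_t G
  let w := graph G u r
  have e₁ : pullback.fst (arrToS G u) G.t w = unitTo G u (pullback.snd G.t u r) := by
    rw [← Scheme.Hom.comp_apply, graph_fst, Scheme.Hom.comp_apply]
  have e₂ : pullback.fst (arrToS G u) G.s (shift G u w) = r := by
    rw [← Scheme.Hom.comp_apply, ← Scheme.Hom.comp_apply, graph_shift_fst]
    rfl
  have sqt := IsPullback.of_hasPullback (arrToS G u) G.t
  have sqs : IsPullback (shift G u ≫ pullback.fst (arrToS G u) G.s) (pullback.snd (arrToS G u) G.t)
      (arrToS G u) G.s :=
    (IsPullback.of_hasPullback (arrToS G u) G.s).of_iso (asIso (shift G u)).symm (Iso.refl _) (Iso.refl _)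
      (Iso.refl _) (by simp) (by simp [← shift_snd]) (by simp) (by simp)
  constructor
  · intro h
    rw [← e₁]
    refine AlgSp.flat_stalk_descend sqt w (CMMor6.flat_stalkMap_baseChange sqs w ?_)
    have : (shift G u ≫ pullback.fst (arrToS G u) G.s) w = r := e₂
    rw [this]
    exact h
  · intro h
    rw [← e₂]
    refine AlgSp.flat_stalk_descend sqs w (CMMor6.flat_stalkMap_baseChange sqt w ?_)
    rw [e₁]
    exact h

variable [LocallyOfFiniteType (arrToS G u)]

/-- **Quasi-finiteness is constant along the targets.** -/
theorem qf_at_iff_unit (r : arrTo G u) :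
    (arrToS G u).QuasiFiniteAt r ↔ (arrToS G u).QuasiFiniteAt (unitTo G u (pullback.snd G.t u r)) := by
  let w := graph G u r
  have e₁ : pullback.fst (arrToS G u) G.t w = unitTo G u (pullback.snd G.t u r) := by
    rw [← Scheme.Hom.comp_apply, graph_fst, Scheme.Hom.comp_apply]
  have e₂ : (shift G u ≫ pullback.fst (arrToS G u) G.s) w = r := by
    rw [← Scheme.Hom.comp_apply, graph_shift_fst]
    rfl
  have sqt := IsPullback.of_hasPullback (arrToS G u) G.t
  have sqs : IsPullback (shift G u ≫ pullback.fst (arrToS G u) G.s) (pullback.snd (arrToS G u) G.t)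
      (arrToS G u) G.s :=
    (IsPullback.of_hasPullback (arrToS G u) G.s).of_iso (asIso (shift G u)).symm (Iso.refl _) (Iso.refl _)
      (Iso.refl _) (by simp) (by simp [← shift_snd]) (by simp) (by simp)
  constructor
  · intro h
    rw [← e₁]
    exact AlgSp.qfAt_descend sqt w (AlgSp.qfAt_bc sqs w (e₂.symm ▸ h))
  · intro h
    rw [← e₂]
    exact AlgSp.qfAt_descend sqs w (AlgSp.qfAt_bc sqt w (e₁.symm ▸ h))

/-- The points of `F` over which the source map is flat and quasi-finite. -/
theorem exists_good [LocallyOfFinitePresentation (arrToS G u)] :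
    ∃ O : F.Opens, ∀ r : arrTo G u, (pullback.snd G.t u r ∈ O ↔
      ((arrToS G u).stalkMap r).hom.Flat ∧ (arrToS G u).QuasiFiniteAt r) := by
  refine ⟨unitTo G u ⁻¹ᵁ (⟨_, FibreFlat.isOpen_flat_stalkMap (arrToS G u)⟩ ⊓ (arrToS G u).quasiFiniteLocus), ?_⟩
  intro r
  rw [flat_at_iff_unit, qf_at_iff_unit]
  rfl

end GrothLib.QSecGen13
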