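import Groth.Agent.Lib.GrpdQuot.QuasiSection
import Groth.Agent.Lib.QSecGen13.LftQuot

/-!
# Quotients with their universal property on every open subset
-/

set_option autoImplicit false
set_option linter.all false
set_option backward.isDefEq.respectTransparency false
set_option maxHeartbeats 800000

universe u

open CategoryTheory CategoryTheory.Limits AlgebraicGeometry

noncomputable section

namespace GrothLib.QSecGen13

open GrothLib.GrpdQuot

variable {S : Scheme.{u}} (G : Grpd.GroupoidScheme S)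

/-- A morphism equalizing the points linked by arrows. -/
def Eqz {O X : Scheme.{u}} (j : O ⟶ G.U) (f : O ⟶ X) : Prop :=
  ∀ ⦃T : Scheme.{u}⦄ (a b : T ⟶ O) (r : T ⟶ G.R), r ≫ G.t = a ≫ j → r ≫ G.s = b ≫ j → a ≫ f = b ≫ f

section Affine

variable [IsFinite G.s] [Flat G.s] [LocallyOfFinitePresentation G.s] {G} (hG : Covered G)

/-- The part of a chart over an open immersion into the quotient. -/
theorem quotientπ_ext_imm {P : Scheme.{u}} (e : P ⟶ quotient G) [IsOpenImmersion e] {X : Scheme.{u}}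
    (g g' : P ⟶ X) (h : pullback.snd (quotientπ hG) e ≫ g = pullback.snd (quotientπ hG) e ≫ g') : g = g' := by
  let N := fun i : Idx G => chartι G i ⁻¹ᵁ e.opensRange
  have hm : ∀ i, Set.range ((N i).ι ≫ chartι G i) ⊆ Set.range e := fun i => by
    rintro _ ⟨c, rfl⟩
    exact c.2
  let m := fun i => IsOpenImmersion.lift e ((N i).ι ≫ chartι G i) (hm i)
  have hme : ∀ i, m i ≫ e = (N i).ι ≫ chartι G i := fun i => IsOpenImmersion.lift_fac _ _ _
  haveI : ∀ i, IsOpenImmersion (m i) := fun i => by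
    haveI : IsOpenImmersion (m i ≫ e) := by rw [hme]; infer_instance
    exact IsOpenImmersion.of_comp (m i) e
  refine Scheme.Cover.hom_ext (Scheme.Cover.mkOfCovers (P := @IsOpenImmersion) (Idx G)
    (fun i => (N i : Scheme.{u})) m (fun p => ?_) fun i => inferInstance) _ _ fun i => ?_
  · obtain ⟨x, hx⟩ := quotientπ_surjective hG (e p)
    obtain ⟨i, hi⟩ := exists_idx_mem x (hG x)
    have hc : chartι G i (i.π ⟨x, hi⟩) = e p := (quotientπ_apply hG i x hi).symm.trans hx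
    refine ⟨i, ⟨i.π ⟨x, hi⟩, show chartι G i _ ∈ e.opensRange from ⟨p, hc.symm⟩⟩, e.isOpenEmbedding.injective ?_⟩
    rw [← Scheme.Hom.comp_apply, hme, Scheme.Hom.comp_apply]
    exact hc
  · show m i ≫ g = m i ≫ g'
    apply i.restrict_epi
    let L : (i.π ⁻¹ᵁ N i).toScheme ⟶ pullback (quotientπ hG) e :=
      pullback.lift ((i.π ⁻¹ᵁ N i).ι ≫ i.1.ι) ((i.π ∣_ N i) ≫ m i) (by
        rw [Category.assoc, ι_quotientπ, Category.assoc, hme, morphismRestrict_ι_assoc])
    have hL : L ≫ pullback.snd (quotientπ hG) e = (i.π ∣_ N i) ≫ m i := pullback.lift_snd _ _ _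
    rw [← Category.assoc, ← hL, Category.assoc, h, ← Category.assoc, hL, Category.assoc]

theorem quotientπ_ext_open (V : (quotient G).Opens) {X : Scheme.{u}} (g g' : (V : Scheme.{u}) ⟶ X)
    (h : (quotientπ hG ∣_ V) ≫ g = (quotientπ hG ∣_ V) ≫ g') : g = g' := by
  refine quotientπ_ext_imm hG V.ι g g' ?_
  have e := (isPullback_morphismRestrict (quotientπ hG) V).flip
  rw [← e.isoPullback_inv_snd, Category.assoc, Category.assoc, h]

/-- The universal property on an open set. -/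
theorem quotientπ_desc_open (V : (quotient G).Opens) {X : Scheme.{u}}
    (f : ((quotientπ hG ⁻¹ᵁ V : G.U.Opens) : Scheme.{u}) ⟶ X) (hf : Eqz G (quotientπ hG ⁻¹ᵁ V).ι f) :
    ∃ g, (quotientπ hG ∣_ V) ≫ g = f := by
  let N := fun i : Idx G => chartι G i ⁻¹ᵁ V
  let m := fun i : Idx G => (chartι G i).resLE V (N i) le_rfl
  have hmι : ∀ i, m i ≫ V.ι = (N i).ι ≫ chartι G i := fun i => Scheme.Hom.resLE_comp_ι _ _
  haveI : ∀ i, IsOpenImmersion (m i) := fun i => by
    haveI : IsOpenImmersion (m i ≫ V.ι) := by rw [hmι]; infer_instance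
    exact IsOpenImmersion.of_comp (m i) V.ι
  have hle : ∀ i, (Set.range ((i.π ⁻¹ᵁ N i).ι ≫ i.1.ι)) ⊆ Set.range (quotientπ hG ⁻¹ᵁ V).ι := fun i => by
    rintro _ ⟨p, rfl⟩
    rw [Scheme.Opens.range_ι]
    show quotientπ hG (((i.π ⁻¹ᵁ N i).ι ≫ i.1.ι) p) ∈ V
    rw [← Scheme.Hom.comp_apply, Category.assoc, ι_quotientπ, Scheme.Hom.comp_apply, Scheme.Hom.comp_apply]
    exact p.2
  let L := fun i => IsOpenImmersion.lift (quotientπ hG ⁻¹ᵁ V).ι _ (hle i)
  have hL : ∀ i, L i ≫ (quotientπ hG ⁻¹ᵁ V).ι = (i.π ⁻¹ᵁ N i).ι ≫ i.1.ι := fun i => IsOpenImmersion.lift_fac _ _ _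
  have hd : ∀ i, ∃ g, (i.π ∣_ N i) ≫ g = L i ≫ f := fun i => i.exists_factor (N i) _ fun T a b r ha hb => by
    rw [← Category.assoc, ← Category.assoc]
    exact hf _ _ r (by rw [Category.assoc, hL]; exact ha) (by rw [Category.assoc, hL]; exact hb)
  choose g hg using hd
  have key : ∀ (i : Idx G) {T : Scheme.{u}} (c : T ⟶ (N i : Scheme.{u}))
      (w : T ⟶ ((quotientπ hG ⁻¹ᵁ V : G.U.Opens) : Scheme.{u})),
      c ≫ m i = w ≫ (quotientπ hG ∣_ V) → c ≫ g i = w ≫ f := by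
    intro i T c w hcw
    have h1 : (c ≫ (N i).ι) ≫ chartι G i = (w ≫ (quotientπ hG ⁻¹ᵁ V).ι) ≫ quotientπ hG := by
      rw [Category.assoc, ← hmι, ← Category.assoc, hcw, Category.assoc, morphismRestrict_ι, Category.assoc]
    let d₀ := (isPullback_chart hG i).lift (c ≫ (N i).ι) (w ≫ (quotientπ hG ⁻¹ᵁ V).ι) h1
    have hd₁ : d₀ ≫ i.π = c ≫ (N i).ι := (isPullback_chart hG i).lift_fst _ _ _
    have hd₂ : d₀ ≫ i.1.ι = w ≫ (quotientπ hG ⁻¹ᵁ V).ι := (isPullback_chart hG i).lift_snd _ _ _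
    let d := (isPullback_morphismRestrict i.π (N i)).lift c d₀ hd₁.symm
    have hd₃ : d ≫ (i.π ∣_ N i) = c := (isPullback_morphismRestrict i.π (N i)).lift_fst _ _ _
    have hd₄ : d ≫ (i.π ⁻¹ᵁ N i).ι = d₀ := (isPullback_morphismRestrict i.π (N i)).lift_snd _ _ _
    have hd₅ : d ≫ L i = w := by
      rw [← cancel_mono (quotientπ hG ⁻¹ᵁ V).ι, Category.assoc, hL, ← Category.assoc, hd₄, hd₂]
    rw [← hd₃, Category.assoc, hg, ← Category.assoc, hd₅]
  have hcov : ∀ p : (V : Scheme.{u}), ∃ (i : Idx G) (c : (N i : Scheme.{u})), m i c = p := fun p => by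
    obtain ⟨x, hx⟩ := quotientπ_surjective hG p.1
    obtain ⟨i, hi⟩ := exists_idx_mem x (hG x)
    have hc : chartι G i (i.π ⟨x, hi⟩) = p.1 := (quotientπ_apply hG i x hi).symm.trans hx
    refine ⟨i, ⟨i.π ⟨x, hi⟩, show chartι G i _ ∈ V from hc.symm ▸ p.2⟩, V.ι.isOpenEmbedding.injective ?_⟩
    rw [← Scheme.Hom.comp_apply, hmι, Scheme.Hom.comp_apply]
    exact hc
  let 𝒰 : (V : Scheme.{u}).OpenCover := Scheme.Cover.mkOfCovers (P := @IsOpenImmersion) (Idx G)
    (fun i => (N i : Scheme.{u})) m hcov fun i => inferInstance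
  have hcompat : ∀ i j, pullback.fst (m i) (m j) ≫ g i = pullback.snd (m i) (m j) ≫ g j := fun i j => by
    let e := pullback.fst (m i) (m j) ≫ m i ≫ V.ι
    haveI : IsOpenImmersion e := inferInstanceAs (IsOpenImmersion (_ ≫ _ ≫ _))
    refine quotientπ_ext_imm hG e _ _ ?_
    let Q := pullback.snd (quotientπ hG) e
    let w := (isPullback_morphismRestrict (quotientπ hG) V).lift (Q ≫ pullback.fst (m i) (m j) ≫ m i)
      (pullback.fst (quotientπ hG) e) (by
        simp only [Q, Category.assoc]; exact pullback.condition.symm)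
    have hw : w ≫ (quotientπ hG ∣_ V) = Q ≫ pullback.fst (m i) (m j) ≫ m i :=
      (isPullback_morphismRestrict (quotientπ hG) V).lift_fst _ _ _
    rw [← Category.assoc, ← Category.assoc, key i _ w (by rw [hw, Category.assoc]),
      key j _ w (by rw [hw, Category.assoc, pullback.condition])]
  refine ⟨𝒰.glueMorphisms g hcompat, ?_⟩
  refine Scheme.Cover.hom_ext (𝒰.pullback₁ (quotientπ hG ∣_ V)) _ _ fun i => ?_
  show pullback.fst (quotientπ hG ∣_ V) (m i) ≫ _ ≫ _ = pullback.fst (quotientπ hG ∣_ V) (m i) ≫ f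
  rw [pullback.condition_assoc, show m i ≫ 𝒰.glueMorphisms g hcompat = g i from 𝒰.ι_glueMorphisms g hcompat i]
  exact key i _ _ pullback.condition.symm

end Affine

/-- A quotient of an invariant open set, universal on every open subset. -/
structure UQ (W : G.U.Opens) : Type (u + 1) where
  Y : Scheme.{u}
  p : (W : Scheme.{u}) ⟶ Y
  invariant : G.s ⁻¹ᵁ W = G.t ⁻¹ᵁ W
  cond : Eqz G W.ι p
  surj : Surjective p
  openMap : IsOpenMap p
  link : ∀ ⦃T : Scheme.{u}⦄ (a b : T ⟶ (W : Scheme.{u})), a ≫ p = b ≫ p → ∀ pt : T,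
    ∃ (T' : Scheme.{u}) (π : T' ⟶ T) (r : T' ⟶ G.R), pt ∈ Set.range π ∧
      r ≫ G.t = π ≫ a ≫ W.ι ∧ r ≫ G.s = π ≫ b ≫ W.ι
  mono_link : Mono G.j → ∀ ⦃T : Scheme.{u}⦄ (a b : T ⟶ (W : Scheme.{u})), a ≫ p = b ≫ p →
    ∃ r : T ⟶ G.R, r ≫ G.t = a ≫ W.ι ∧ r ≫ G.s = b ≫ W.ι
  desc : ∀ (V : Y.Opens) ⦃X : Scheme.{u}⦄ (f : ((p ⁻¹ᵁ V : (W : Scheme.{u}).Opens) : Scheme.{u}) ⟶ X),
    Eqz G ((p ⁻¹ᵁ V).ι ≫ W.ι) f → ∃ g, (p ∣_ V) ≫ g = f
  ext : ∀ (V : Y.Opens) ⦃X : Scheme.{u}⦄ (g g' : (V : Scheme.{u}) ⟶ X),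
    (p ∣_ V) ≫ g = (p ∣_ V) ≫ g' → g = g'

variable {G}

/-- A quasi-section gives a quotient universal on open subsets. -/
def uqOfQuasiSection (W : G.U.Opens) (hW : G.s ⁻¹ᵁ W = G.t ⁻¹ᵁ W) {U' : Scheme.{u}}
    {u : U' ⟶ (restrict G W hW).U} [Mono u] (h : IsQuasiSection (restrict G W hW) u)
    (ho : IsOpenMap (qsProj h)) : UQ G W where
  Y := qsQuot h
  p := qsProj h
  invariant := hW
  cond T a b r ha hb := by
    let r' := liftR G W r b hb
    have ht : r' ≫ tRes G W hW = a := by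
      rw [← cancel_mono W.ι, Category.assoc, tRes_ι, liftR_ι_assoc, ha]
    have hs : r' ≫ (G.s ∣_ W) = b := by
      rw [← cancel_mono W.ι, Category.assoc, sRes_ι, liftR_ι_assoc, hb]
    rw [← ht, ← hs]
    exact (Category.assoc _ _ _).trans ((congrArg (r' ≫ ·) (qsProj_condition h)).trans (Category.assoc _ _ _).symm)
  surj := surjective_qsProj h
  openMap := ho
  link T a b hab pt := by
    let φ := pullback.lift (tRes G W hW) (G.s ∣_ W) (qsProj_condition h)
    haveI : Surjective φ := ⟨surjective_qsProj_lift h⟩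
    let P := pullback (pullback.lift a b hab) φ
    obtain ⟨q, hq⟩ := (pullback.fst (pullback.lift a b hab) φ).surjective pt
    refine ⟨P, pullback.fst _ _, pullback.snd _ _ ≫ (G.s ⁻¹ᵁ W).ι, ⟨q, hq⟩, ?_, ?_⟩
    · have h1 := congrArg (· ≫ pullback.fst (qsProj h) (qsProj h) ≫ W.ι)
        (pullback.condition (f := pullback.lift a b hab) (g := φ))
      simp only [φ, Category.assoc, pullback.lift_fst_assoc] at h1
      rw [Category.assoc, ← tRes_ι G W hW]
      exact h1.symm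
    · have h1 := congrArg (· ≫ pullback.snd (qsProj h) (qsProj h) ≫ W.ι)
        (pullback.condition (f := pullback.lift a b hab) (g := φ))
      simp only [φ, Category.assoc, pullback.lift_snd_assoc] at h1
      rw [Category.assoc, ← sRes_ι]
      exact h1.symm
  mono_link hm T a b hab := by
    haveI := hm
    haveI : Mono (restrict G W hW).j := mono_restrict_j G W hW
    let k := (isPullback_qsProj h).lift a b hab
    refine ⟨k ≫ (G.s ⁻¹ᵁ W).ι, ?_, ?_⟩
    · rw [Category.assoc, ← tRes_ι G W hW]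
      exact (Category.assoc _ _ _).symm.trans (congrArg (· ≫ W.ι) ((isPullback_qsProj h).lift_fst a b hab))
    · rw [Category.assoc, ← sRes_ι]
      exact (Category.assoc _ _ _).symm.trans (congrArg (· ≫ W.ι) ((isPullback_qsProj h).lift_snd a b hab))
  desc V X f hf := by
    haveI := h.finite_s
    haveI := h.flat_s
    haveI := h.fp_s
    haveI := h.flat
    haveI := h.fp
    haveI := h.surj
    let G' := restrict G W hW
    let v := arrToS G' u
    let E := qsProj h ⁻¹ᵁ V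
    let O := qsπ h ⁻¹ᵁ V
    have hO : Set.range (O.ι ≫ u) ⊆ Set.range E.ι := by
      rintro _ ⟨x, rfl⟩
      rw [Scheme.Opens.range_ι]
      show qsProj h ((O.ι ≫ u) x) ∈ V
      rw [Scheme.Hom.comp_apply, ← Scheme.Hom.comp_apply u, u_qsProj]
      exact x.2
    let l := IsOpenImmersion.lift E.ι (O.ι ≫ u) hO
    have hl : l ≫ E.ι = O.ι ≫ u := IsOpenImmersion.lift_fac _ _ _
    obtain ⟨g, hg⟩ := quotientπ_desc_open h.covered' V (l ≫ f) fun T a b r ha hb => by
      rw [← Category.assoc, ← Category.assoc]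
      refine hf _ _ ((r ≫ arrInι G' u) ≫ (G.s ⁻¹ᵁ W).ι) ?_ ?_
      · rw [Category.assoc, ← tRes_ι G W hW]
        simp only [Category.assoc]
        rw [show (l ≫ E.ι ≫ W.ι) = O.ι ≫ u ≫ W.ι from (reassoc_of% hl) W.ι,
          show arrInι G' u ≫ tRes G W hW ≫ W.ι = arrInT G' u ≫ u ≫ W.ι from
            ((Category.assoc _ _ _).symm.trans (congrArg (· ≫ W.ι) (arrInι_t G' u))).trans (Category.assoc _ _ _)]
        rw [← Category.assoc r, ← Category.assoc a]
        exact congrArg (· ≫ u ≫ W.ι) ha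
      · rw [Category.assoc, ← sRes_ι]
        simp only [Category.assoc]
        rw [show (l ≫ E.ι ≫ W.ι) = O.ι ≫ u ≫ W.ι from (reassoc_of% hl) W.ι,
          show arrInι G' u ≫ (G.s ∣_ W) ≫ W.ι = arrInS G' u ≫ u ≫ W.ι from
            ((Category.assoc _ _ _).symm.trans (congrArg (· ≫ W.ι) (arrInι_s G' u))).trans (Category.assoc _ _ _)]
        rw [← Category.assoc r, ← Category.assoc b]
        exact congrArg (· ≫ u ≫ W.ι) hb
    refine ⟨g, ?_⟩
    haveI : Flat (v ∣_ E) := IsZariskiLocalAtTarget.restrict h.flat E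
    haveI : LocallyOfFinitePresentation (v ∣_ E) := IsZariskiLocalAtTarget.restrict h.fp E
    haveI : Surjective (v ∣_ E) := IsZariskiLocalAtTarget.restrict h.surj E
    have hσ : Set.range ((v ⁻¹ᵁ E).ι ≫ pullback.snd G'.t u) ⊆ Set.range O.ι := by
      rintro _ ⟨x, rfl⟩
      rw [Scheme.Opens.range_ι]
      show qsπ h (((v ⁻¹ᵁ E).ι ≫ pullback.snd G'.t u) x) ∈ V
      rw [← Scheme.Hom.comp_apply, Category.assoc, ← arrToS_qsProj, Scheme.Hom.comp_apply, Scheme.Hom.comp_apply]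
      exact x.2
    let σ := IsOpenImmersion.lift O.ι _ hσ
    have hσι : σ ≫ O.ι = (v ⁻¹ᵁ E).ι ≫ pullback.snd G'.t u := IsOpenImmersion.lift_fac _ _ _
    have hcomp : (v ∣_ E) ≫ (qsProj h ∣_ V) = σ ≫ (qsπ h ∣_ V) := by
      rw [← cancel_mono V.ι, Category.assoc, Category.assoc, morphismRestrict_ι, morphismRestrict_ι,
        reassoc_of% hσι, ← Category.assoc (v ∣_ E), morphismRestrict_ι, Category.assoc, arrToS_qsProj]
    rw [← cancel_epi (v ∣_ E), reassoc_of% hcomp]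
    refine (congrArg (σ ≫ ·) hg).trans ?_
    show σ ≫ l ≫ f = _
    rw [← Category.assoc]
    refine hf _ _ (((v ⁻¹ᵁ E).ι ≫ pullback.fst G'.t u) ≫ (G.s ⁻¹ᵁ W).ι) ?_ ?_
    · rw [Category.assoc, ← tRes_ι G W hW]
      simp only [Category.assoc]
      rw [show (l ≫ E.ι ≫ W.ι) = O.ι ≫ u ≫ W.ι from (reassoc_of% hl) W.ι, reassoc_of% hσι]
      exact congrArg ((v ⁻¹ᵁ E).ι ≫ ·) (pullback.condition_assoc W.ι)
    · rw [Category.assoc, ← sRes_ι]
      simp only [Category.assoc]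
      exact ((morphismRestrict_ι_assoc v E W.ι).trans (congrArg ((v ⁻¹ᵁ E).ι ≫ ·) (Category.assoc _ _ _))).symm
  ext V X g g' hg := by
    haveI := h.finite_s
    haveI := h.flat_s
    haveI := h.fp_s
    refine quotientπ_ext_open h.covered' V g g' ?_
    let O := qsπ h ⁻¹ᵁ V
    have hO : Set.range (O.ι ≫ u) ⊆ Set.range (qsProj h ⁻¹ᵁ V).ι := by
      rintro _ ⟨x, rfl⟩
      rw [Scheme.Opens.range_ι]
      show qsProj h ((O.ι ≫ u) x) ∈ V
      rw [Scheme.Hom.comp_apply, ← Scheme.Hom.comp_apply u, u_qsProj]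
      exact x.2
    let l := IsOpenImmersion.lift (qsProj h ⁻¹ᵁ V).ι (O.ι ≫ u) hO
    have hl : l ≫ (qsProj h ∣_ V) = qsπ h ∣_ V := by
      rw [← cancel_mono V.ι, Category.assoc, morphismRestrict_ι, morphismRestrict_ι, ← Category.assoc,
        IsOpenImmersion.lift_fac, Category.assoc, u_qsProj]
    show (qsπ h ∣_ V) ≫ g = (qsπ h ∣_ V) ≫ g'
    rw [← hl, Category.assoc, Category.assoc, hg]

end GrothLib.QSecGen13
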