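import Groth.Agent.Lib.QSecGen13.UQ

/-!
# Gluing quotients of invariant open sets
-/

set_option autoImplicit false
set_option linter.all false
set_option backward.isDefEq.respectTransparency false
set_option maxHeartbeats 800000

universe u

open CategoryTheory CategoryTheory.Limits AlgebraicGeometry TopologicalSpace

noncomputable section

namespace GrothLib.QSecGen13

open GrothLib.GrpdQuot

variable {S : Scheme.{u}} {G : Grpd.GroupoidScheme S}

theorem UQ.link_pt {W : G.U.Opens} (Q : UQ G W) (x y : (W : Scheme.{u})) (h : Q.p x = Q.p y) :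
    ∃ r : G.R, G.t r = x.1 ∧ G.s r = y.1 := by
  obtain ⟨z, hz₁, hz₂⟩ := Scheme.Pullback.exists_preimage_pullback (f := Q.p) (g := Q.p) x y h
  obtain ⟨T', π, r, ⟨q, hq⟩, ht, hs⟩ := Q.link (pullback.fst Q.p Q.p) (pullback.snd Q.p Q.p) pullback.condition z
  refine ⟨r q, ?_, ?_⟩
  · rw [← Scheme.Hom.comp_apply, ht]
    simp only [Scheme.Hom.comp_apply, hq, hz₁]
    rfl
  · rw [← Scheme.Hom.comp_apply, hs]
    simp only [Scheme.Hom.comp_apply, hq, hz₂]
    rfl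

variable {κ : Type u} {W : κ → G.U.Opens} (Q : ∀ k, UQ G (W k))

/-- An open subset of one of the quotients. -/
structure GIdx : Type u where
  k : κ
  V : (Q k).Y.Opens

variable {Q}

namespace GIdx

/-- The corresponding open set of objects. -/
def rng (i : GIdx Q) : G.U.Opens := (W i.k).ι ''ᵁ ((Q i.k).p ⁻¹ᵁ i.V)

instance : Preorder (GIdx Q) := Preorder.lift GIdx.rng

theorem mem_rng (i : GIdx Q) (x : G.U) : x ∈ i.rng ↔ ∃ hx : x ∈ W i.k, (Q i.k).p ⟨x, hx⟩ ∈ i.V := by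
  constructor
  · rintro ⟨y, hy, rfl⟩
    exact ⟨y.2, hy⟩
  · rintro ⟨hx, h⟩
    exact ⟨⟨x, hx⟩, h, rfl⟩

theorem p_eq_of_arrow (k : κ) (x y : (W k : Scheme.{u})) (r : G.R) (ht : G.t r = x.1) (hs : G.s r = y.1) :
    (Q k).p x = (Q k).p y := by
  have hr : r ∈ G.s ⁻¹ᵁ W k := show G.s r ∈ W k from hs.symm ▸ y.2
  let a := tRes G (W k) (Q k).invariant
  have e := (Q k).cond a (G.s ∣_ W k) (G.s ⁻¹ᵁ W k).ι (tRes_ι G _ _).symm (sRes_ι G (W k)).symm
  have hx : a ⟨r, hr⟩ = x := Subtype.ext ((congrArg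
    (fun φ : ((G.s ⁻¹ᵁ W k : G.R.Opens) : Scheme.{u}) ⟶ G.U => φ ⟨r, hr⟩) (tRes_ι G (W k) (Q k).invariant)).trans ht)
  have hy : (G.s ∣_ W k) ⟨r, hr⟩ = y := Subtype.ext ((morphismRestrict_base_coe _ _ _).trans hs)
  rw [← hx, ← hy, ← Scheme.Hom.comp_apply, ← Scheme.Hom.comp_apply, e]

theorem rng_invariant (i : GIdx Q) : G.s ⁻¹ᵁ i.rng = G.t ⁻¹ᵁ i.rng := by
  have hWk := (Q i.k).invariant
  ext r
  show G.s r ∈ i.rng ↔ G.t r ∈ i.rng
  rw [mem_rng, mem_rng]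
  constructor
  · rintro ⟨hs, h⟩
    have hr : r ∈ G.t ⁻¹ᵁ W i.k := hWk ▸ (hs : r ∈ G.s ⁻¹ᵁ W i.k)
    exact ⟨hr, (p_eq_of_arrow i.k ⟨_, hr⟩ ⟨_, hs⟩ r rfl rfl).symm ▸ h⟩
  · rintro ⟨ht, h⟩
    have hr : r ∈ G.s ⁻¹ᵁ W i.k := hWk.symm ▸ (ht : r ∈ G.t ⁻¹ᵁ W i.k)
    exact ⟨hr, (p_eq_of_arrow i.k ⟨_, ht⟩ ⟨_, hr⟩ r rfl rfl) ▸ h⟩

/-- The objects over an index. -/
def src (i : GIdx Q) : Scheme.{u} := ((Q i.k).p ⁻¹ᵁ i.V : (W i.k : Scheme.{u}).Opens)

/-- The inclusion of the objects over an index. -/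
def inc (i : GIdx Q) : i.src ⟶ G.U := ((Q i.k).p ⁻¹ᵁ i.V).ι ≫ (W i.k).ι

instance (i : GIdx Q) : IsOpenImmersion i.inc := by
  unfold inc src; infer_instance

theorem range_inc (i : GIdx Q) : Set.range i.inc = i.rng := by
  ext x
  constructor
  · rintro ⟨p, rfl⟩
    exact ⟨p.1, p.2, rfl⟩
  · rintro ⟨y, hy, rfl⟩
    exact ⟨⟨y, hy⟩, rfl⟩

/-- The quotient over an index. -/
def obj (i : GIdx Q) : Scheme.{u} := i.V

/-- The quotient map over an index. -/
def π (i : GIdx Q) : i.src ⟶ i.obj := (Q i.k).p ∣_ i.V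

theorem π_surjective (i : GIdx Q) : Function.Surjective i.π := by
  haveI := (Q i.k).surj
  intro c
  obtain ⟨x, hx⟩ := (Q i.k).p.surjective c.1
  exact ⟨⟨x, show (Q i.k).p x ∈ i.V from hx.symm ▸ c.2⟩, Subtype.ext ((morphismRestrict_base_coe _ _ _).trans hx)⟩

theorem cond (i : GIdx Q) : Eqz G i.inc i.π := fun T a b r ha hb => by
  rw [← cancel_mono i.V.ι, Category.assoc, Category.assoc]
  show a ≫ ((Q i.k).p ∣_ i.V) ≫ i.V.ι = b ≫ ((Q i.k).p ∣_ i.V) ≫ i.V.ι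
  rw [morphismRestrict_ι, ← Category.assoc, ← Category.assoc]
  exact (Q i.k).cond _ _ r (ha.trans (Category.assoc _ _ _).symm) (hb.trans (Category.assoc _ _ _).symm)

theorem exists_desc (i : GIdx Q) {X : Scheme.{u}} (f : i.src ⟶ X) (hf : Eqz G i.inc f) :
    ∃ g : i.obj ⟶ X, i.π ≫ g = f :=
  (Q i.k).desc i.V f hf

theorem hom_ext (i : GIdx Q) {X : Scheme.{u}} (g g' : i.obj ⟶ X) (h : i.π ≫ g = i.π ≫ g') : g = g' :=
  (Q i.k).ext i.V g g' h

/-- Inclusion of objects. -/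
def lift (i m : GIdx Q) (h : i.rng ≤ m.rng) : i.src ⟶ m.src :=
  IsOpenImmersion.lift m.inc i.inc (by rw [range_inc, range_inc]; exact h)

@[reassoc]
theorem lift_inc (i m : GIdx Q) (h : i.rng ≤ m.rng) : lift i m h ≫ m.inc = i.inc :=
  IsOpenImmersion.lift_fac _ _ _

theorem map_aux (i m : GIdx Q) (h : i.rng ≤ m.rng) : ∃ g : i.obj ⟶ m.obj, i.π ≫ g = lift i m h ≫ m.π := by
  refine i.exists_desc _ fun T a b r ha hb => ?_
  rw [← Category.assoc, ← Category.assoc]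
  exact m.cond _ _ r (by rw [Category.assoc, lift_inc]; exact ha) (by rw [Category.assoc, lift_inc]; exact hb)

/-- The induced map of quotients. -/
def map {i m : GIdx Q} (h : i.rng ≤ m.rng) : i.obj ⟶ m.obj := (map_aux i m h).choose

@[reassoc]
theorem π_map {i m : GIdx Q} (h : i.rng ≤ m.rng) : i.π ≫ map h = lift i m h ≫ m.π :=
  (map_aux i m h).choose_spec

theorem map_id (i : GIdx Q) : map (le_refl i.rng) = 𝟙 i.obj := by
  apply i.hom_ext
  rw [π_map, Category.comp_id]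
  have : lift i i (le_refl i.rng) = 𝟙 _ := by rw [← cancel_mono i.inc, lift_inc, Category.id_comp]
  rw [this, Category.id_comp]

theorem map_comp {i j m : GIdx Q} (h : i.rng ≤ j.rng) (h' : j.rng ≤ m.rng) :
    map h ≫ map h' = map (h.trans h') := by
  apply i.hom_ext
  rw [π_map_assoc, π_map, π_map, ← Category.assoc]
  congr 1
  rw [← cancel_mono m.inc, Category.assoc, lift_inc, lift_inc, lift_inc]

theorem isIso_map {i j : GIdx Q} (h : i.rng ≤ j.rng) (h' : j.rng ≤ i.rng) : IsIso (map h) :=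
  ⟨map h', by rw [map_comp]; exact map_id i, by rw [map_comp]; exact map_id j⟩

/-- An invariant open set below an index is the open set of an index. -/
theorem exists_sub (m : GIdx Q) (N : G.U.Opens) (hN : G.s ⁻¹ᵁ N = G.t ⁻¹ᵁ N) (hle : N ≤ m.rng) :
    ∃ O : (Q m.k).Y.Opens, O ≤ m.V ∧ (GIdx.mk m.k O : GIdx Q).rng = N := by
  refine ⟨⟨(Q m.k).p '' ((W m.k).ι ⁻¹' (N : Set G.U)), (Q m.k).openMap _ (N.2.preimage (W m.k).ι.continuous)⟩,
    ?_, ?_⟩
  · rintro _ ⟨x, hx, rfl⟩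
    obtain ⟨_, h⟩ := (m.mem_rng _).1 (hle hx)
    exact h
  · ext x
    refine (mem_rng _ x).trans ⟨?_, fun hx => ?_⟩
    · rintro ⟨hx, ⟨y, hy, hyx⟩⟩
      obtain ⟨r, hrt, hrs⟩ := (Q m.k).link_pt _ _ hyx
      have hr : r ∈ G.t ⁻¹ᵁ N := show G.t r ∈ N from hrt.symm ▸ hy
      rw [← hN] at hr
      have e : G.s r = x := hrs
      exact e ▸ (hr : G.s r ∈ N)
    · obtain ⟨hxW, -⟩ := (m.mem_rng x).1 (hle hx)
      exact ⟨hxW, ⟨⟨x, hxW⟩, hx, rfl⟩⟩

theorem isOpenImmersion_map {i m : GIdx Q} (h : i.rng ≤ m.rng) : IsOpenImmersion (map h) := by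
  obtain ⟨O, hO, hr⟩ := exists_sub m i.rng i.rng_invariant h
  let n : GIdx Q := ⟨m.k, O⟩
  haveI := isIso_map (i := i) (j := n) hr.ge hr.le
  have hnm : n.rng ≤ m.rng := hr.le.trans h
  have e : map hnm = (Q m.k).Y.homOfLE hO := by
    apply n.hom_ext
    rw [π_map, ← cancel_mono m.V.ι]
    show (lift n m hnm ≫ ((Q m.k).p ∣_ m.V)) ≫ m.V.ι = (((Q m.k).p ∣_ O) ≫ (Q m.k).Y.homOfLE hO) ≫ m.V.ι
    rw [Category.assoc, morphismRestrict_ι, Category.assoc, Scheme.homOfLE_ι, morphismRestrict_ι]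
    have hl : lift n m hnm ≫ ((Q m.k).p ⁻¹ᵁ m.V).ι = ((Q m.k).p ⁻¹ᵁ O).ι := by
      rw [← cancel_mono (W m.k).ι, Category.assoc]
      exact lift_inc n m hnm
    rw [reassoc_of% hl]
  haveI : IsOpenImmersion (map hnm) := by rw [e]; infer_instance
  rw [← map_comp hr.ge hnm]
  infer_instance

theorem exists_inf (i j : GIdx Q) : ∃ l : GIdx Q, l.rng = i.rng ⊓ j.rng := by
  obtain ⟨O, -, hO⟩ := exists_sub i (i.rng ⊓ j.rng) (by
    rw [Scheme.Hom.preimage_inf, Scheme.Hom.preimage_inf, i.rng_invariant, j.rng_invariant]) inf_le_left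
  exact ⟨_, hO⟩

theorem π_link (i : GIdx Q) (x y : i.src) (h : i.π x = i.π y) :
    ∃ r : G.R, G.t r = i.inc x ∧ G.s r = i.inc y := by
  obtain ⟨r, ht, hs⟩ := (Q i.k).link_pt x.1 y.1 ((morphismRestrict_base_coe _ _ _).symm.trans
    ((congrArg Subtype.val h).trans (morphismRestrict_base_coe _ _ _)))
  exact ⟨r, ht, hs⟩

theorem map_π_apply {i m : GIdx Q} (h : i.rng ≤ m.rng) (x : i.src) :
    map h (i.π x) = m.π (lift i m h x) := by
  rw [← Scheme.Hom.comp_apply, π_map, Scheme.Hom.comp_apply]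

theorem lift_inc_apply {i m : GIdx Q} (h : i.rng ≤ m.rng) (x : i.src) : m.inc (lift i m h x) = i.inc x := by
  rw [← Scheme.Hom.comp_apply, lift_inc]

theorem inc_mem (i : GIdx Q) (x : i.src) : i.inc x ∈ i.rng := i.range_inc.le ⟨x, rfl⟩

end GIdx

open GIdx

variable (Q)

/-- The diagram of quotients. -/
def gdiagram : GIdx Q ⥤ Scheme.{u} where
  obj i := i.obj
  map f := GIdx.map (leOfHom f : _)
  map_id i := GIdx.map_id i
  map_comp f g := (GIdx.map_comp _ _).symm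

instance {i j : GIdx Q} (f : i ⟶ j) : IsOpenImmersion ((gdiagram Q).map f) :=
  GIdx.isOpenImmersion_map (leOfHom f)

instance : ((gdiagram Q) ⋙ Scheme.forget).IsLocallyDirected := by
  constructor
  intro i j k fi fj xi xj hxy
  obtain ⟨u, rfl⟩ := GIdx.π_surjective i xi
  obtain ⟨v, rfl⟩ := GIdx.π_surjective j xj
  have huv : k.π (lift i k (leOfHom fi) u) = k.π (lift j k (leOfHom fj) v) :=
    (map_π_apply _ u).symm.trans (hxy.trans (map_π_apply _ v))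
  obtain ⟨r, hrt, hrs⟩ := k.π_link _ _ huv
  rw [lift_inc_apply] at hrt hrs
  have huj : i.inc u ∈ j.rng := by
    have h1 : r ∈ G.s ⁻¹ᵁ j.rng := show G.s r ∈ j.rng from hrs.symm ▸ j.inc_mem v
    rw [j.rng_invariant] at h1
    exact hrt ▸ h1
  obtain ⟨l, hl⟩ := exists_inf i j
  obtain ⟨w, hw⟩ := l.range_inc.ge (show i.inc u ∈ (l.rng : Set G.U) from hl.ge ⟨i.inc_mem u, huj⟩)
  have hli : l.rng ≤ i.rng := hl.le.trans inf_le_left
  have hlj : l.rng ≤ j.rng := hl.le.trans inf_le_right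
  refine ⟨l, homOfLE hli, homOfLE hlj, l.π w, ?_, ?_⟩
  · refine (map_π_apply hli w).trans (congrArg i.π ?_)
    exact i.inc.isOpenEmbedding.injective ((lift_inc_apply hli w).trans hw)
  · refine (map_π_apply hlj w).trans ?_
    have e : j.inc (lift l j hlj w) = i.inc u := (lift_inc_apply hlj w).trans hw
    refine Subtype.ext ?_
    refine (morphismRestrict_base_coe _ _ _).trans (Eq.trans ?_ (morphismRestrict_base_coe _ _ _).symm)
    refine GIdx.p_eq_of_arrow j.k _ _ r ?_ ?_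
    · exact hrt.trans (e.symm.trans (Scheme.Hom.comp_apply _ _ _))
    · exact hrs.trans (Scheme.Hom.comp_apply _ _ _)

/-- The glued quotient. -/
def gQuot : Scheme.{u} := colimit (gdiagram Q)

/-- The charts of the glued quotient. -/
def gChart (i : GIdx Q) : i.obj ⟶ gQuot Q := colimit.ι (gdiagram Q) i

instance (i : GIdx Q) : IsOpenImmersion (gChart Q i) :=
  inferInstanceAs (IsOpenImmersion (colimit.ι (gdiagram Q) i))

theorem lift_π_gChart {l i : GIdx Q} (h : l.rng ≤ i.rng) :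
    lift l i h ≫ i.π ≫ gChart Q i = l.π ≫ gChart Q l := by
  rw [← π_map_assoc]
  exact congrArg (l.π ≫ ·) (colimit.w (gdiagram Q) (homOfLE h : l ⟶ i))

/-- The index of a whole quotient. -/
abbrev gTop (k : κ) : GIdx Q := ⟨k, ⊤⟩

variable {Q}

theorem mem_gTop {k : κ} {x : G.U} (hx : x ∈ W k) : x ∈ (gTop Q k).rng :=
  ((gTop Q k).mem_rng x).2 ⟨hx, trivial⟩

/-- The given open sets cover the objects. -/
def GCovers (Q : ∀ k, UQ G (W k)) : Prop := ∀ x : G.U, ∃ k, x ∈ W k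

variable (hcov : GCovers Q)

/-- The cover of the objects. -/
def gCover : G.U.OpenCover :=
  Scheme.Cover.mkOfCovers (P := @IsOpenImmersion) κ (fun k => (gTop Q k).src) (fun k => (gTop Q k).inc)
    (fun x => (hcov x).elim fun k hk => ⟨k, (gTop Q k).range_inc.ge (mem_gTop hk)⟩) fun _ => inferInstance

theorem gCompat {P : Scheme.{u}} {i j : GIdx Q} (a : P ⟶ i.src) (b : P ⟶ j.src) (h : a ≫ i.inc = b ≫ j.inc) :
    a ≫ i.π ≫ gChart Q i = b ≫ j.π ≫ gChart Q j := by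
  obtain ⟨l, hl⟩ := exists_inf i j
  have hli : l.rng ≤ i.rng := hl.le.trans inf_le_left
  have hlj : l.rng ≤ j.rng := hl.le.trans inf_le_right
  have hr : Set.range (a ≫ i.inc) ⊆ Set.range l.inc := by
    rw [l.range_inc]
    rintro _ ⟨p, rfl⟩
    refine hl.ge ⟨?_, ?_⟩
    · rw [Scheme.Hom.comp_apply]; exact i.inc_mem _
    · rw [h, Scheme.Hom.comp_apply]; exact j.inc_mem _
  let m := IsOpenImmersion.lift l.inc (a ≫ i.inc) hr
  have hma : m ≫ lift l i hli = a := by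
    rw [← cancel_mono i.inc, Category.assoc, lift_inc, IsOpenImmersion.lift_fac]
  have hmb : m ≫ lift l j hlj = b := by
    rw [← cancel_mono j.inc, Category.assoc, lift_inc, IsOpenImmersion.lift_fac, h]
  rw [← hma, ← hmb, Category.assoc, Category.assoc, lift_π_gChart, lift_π_gChart]

/-- The glued quotient map. -/
def gπ : G.U ⟶ gQuot Q :=
  (gCover hcov).glueMorphisms (fun k => (gTop Q k).π ≫ gChart Q (gTop Q k))
    fun k l => gCompat (i := gTop Q k) (j := gTop Q l) _ _ pullback.condition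

theorem inc_gπ (i : GIdx Q) : i.inc ≫ gπ hcov = i.π ≫ gChart Q i := by
  refine Scheme.Cover.hom_ext ((gCover hcov).pullback₁ i.inc) _ _ fun k => ?_
  show pullback.fst i.inc ((gTop Q k).inc) ≫ i.inc ≫ gπ hcov = pullback.fst i.inc ((gTop Q k).inc) ≫ i.π ≫ gChart Q i
  rw [pullback.condition_assoc, show (gTop Q k).inc ≫ gπ hcov = (gTop Q k).π ≫ gChart Q (gTop Q k) from
    (gCover hcov).ι_glueMorphisms _ _ k]
  exact gCompat _ _ pullback.condition.symm

theorem gπ_apply (i : GIdx Q) (x : i.src) : gπ hcov (i.inc x) = gChart Q i (i.π x) := by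
  rw [← Scheme.Hom.comp_apply, inc_gπ, Scheme.Hom.comp_apply]

theorem gπ_surjective : Surjective (gπ hcov) := ⟨fun c => by
  obtain ⟨i, ci, rfl⟩ := Scheme.IsLocallyDirected.ι_jointly_surjective (gdiagram Q) c
  obtain ⟨x, rfl⟩ := GIdx.π_surjective i ci
  exact ⟨i.inc x, gπ_apply hcov i x⟩⟩

theorem gπ_condition [Flat G.s] : G.t ≫ gπ hcov = G.s ≫ gπ hcov := by
  refine Scheme.Cover.hom_ext (Scheme.Cover.mkOfCovers (P := @IsOpenImmersion) κ
    (fun k => ((G.s ⁻¹ᵁ (gTop Q k).rng : G.R.Opens) : Scheme.{u})) (fun k => (G.s ⁻¹ᵁ (gTop Q k).rng).ι)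
    (fun r => (hcov (G.s r)).elim fun k hk => ⟨k, ⟨r, mem_gTop hk⟩, rfl⟩) fun _ => inferInstance) _ _ fun k => ?_
  let i := gTop Q k
  let A := (G.s ⁻¹ᵁ i.rng).ι
  show A ≫ G.t ≫ gπ hcov = A ≫ G.s ≫ gπ hcov
  have hs : Set.range (A ≫ G.s) ⊆ Set.range i.inc := by
    rw [i.range_inc]; rintro _ ⟨p, rfl⟩; exact p.2
  have ht : Set.range (A ≫ G.t) ⊆ Set.range i.inc := by
    rw [i.range_inc]
    rintro _ ⟨p, rfl⟩
    exact (i.rng_invariant.le p.2 : p.1 ∈ G.t ⁻¹ᵁ i.rng)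
  rw [← Category.assoc, ← Category.assoc, ← IsOpenImmersion.lift_fac i.inc _ hs,
    ← IsOpenImmersion.lift_fac i.inc _ ht, Category.assoc, Category.assoc, inc_gπ, ← Category.assoc, ← Category.assoc,
    i.cond _ _ A (IsOpenImmersion.lift_fac i.inc _ ht).symm (IsOpenImmersion.lift_fac i.inc _ hs).symm]

theorem gπ_linked (x y : G.U) (h : gπ hcov x = gπ hcov y) : ∃ r : G.R, G.t r = x ∧ G.s r = y := by
  obtain ⟨a, ha⟩ := hcov x
  obtain ⟨b, hb⟩ := hcov y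
  obtain ⟨x', rfl⟩ := (gTop Q a).range_inc.ge (mem_gTop ha)
  obtain ⟨y', rfl⟩ := (gTop Q b).range_inc.ge (mem_gTop hb)
  rw [gπ_apply, gπ_apply] at h
  obtain ⟨k, fi, fj, c, hci, hcj⟩ := (Scheme.IsLocallyDirected.ι_eq_ι_iff (gdiagram Q)).mp h
  obtain ⟨z, rfl⟩ := k.π_surjective c
  obtain ⟨r₁, h₁t, h₁s⟩ := (gTop Q a).π_link _ _ ((map_π_apply (leOfHom fi) z).symm.trans hci).symm
  obtain ⟨r₂, h₂t, h₂s⟩ := (gTop Q b).π_link _ _ ((map_π_apply (leOfHom fj) z).symm.trans hcj)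
  rw [lift_inc_apply] at h₁s h₂t
  obtain ⟨q, hqt, hqs⟩ := exists_comp_pt G (a := r₁) (b := r₂) (h₁s.trans h₂t.symm)
  exact ⟨q, hqt.trans h₁t, hqs.trans h₂s⟩

theorem preimage_gChart (i : GIdx Q) : gπ hcov ⁻¹ᵁ (gChart Q i).opensRange = i.rng := by
  ext x
  refine ⟨fun ⟨c, hc⟩ => ?_, fun hx => ?_⟩
  · obtain ⟨w, rfl⟩ := i.π_surjective c
    obtain ⟨r, hrt, hrs⟩ := gπ_linked hcov x (i.inc w) (hc.symm.trans (gπ_apply hcov i w).symm)
    have h1 : r ∈ G.s ⁻¹ᵁ i.rng := show G.s r ∈ i.rng from hrs.symm ▸ i.inc_mem w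
    rw [i.rng_invariant] at h1
    exact hrt ▸ h1
  · obtain ⟨w, rfl⟩ := i.range_inc.ge hx
    exact ⟨_, (gπ_apply hcov i w).symm⟩

theorem isPullback_gChart (i : GIdx Q) : IsPullback i.π i.inc (gChart Q i) (gπ hcov) :=
  IsOpenImmersion.isPullback i.π i.inc (gChart Q i) (gπ hcov) (inc_gπ hcov i) (by
    rw [preimage_gChart]
    exact TopologicalSpace.Opens.ext i.range_inc.symm)

/-- The cover of the glued quotient by the given quotients. -/
def gQuotCover : (gQuot Q).OpenCover :=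
  Scheme.Cover.mkOfCovers (P := @IsOpenImmersion) κ (fun k => (gTop Q k).obj) (fun k => gChart Q (gTop Q k))
    (fun c => by
      haveI := gπ_surjective hcov
      obtain ⟨x, rfl⟩ := (gπ hcov).surjective c
      obtain ⟨k, hk⟩ := hcov x
      obtain ⟨w, rfl⟩ := (gTop Q k).range_inc.ge (mem_gTop hk)
      exact ⟨k, _, (gπ_apply hcov _ w).symm⟩)
    fun _ => inferInstance

/-- Properties local at the target glue. -/
theorem prop_gπ (P : MorphismProperty Scheme.{u}) [IsZariskiLocalAtTarget P] (h : ∀ k, P (Q k).p) :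
    P (gπ hcov) := by
  refine IsZariskiLocalAtTarget.of_openCover (gQuotCover hcov) fun k => ?_
  refine (P.cancel_left_of_respectsIso ((isPullback_gChart hcov (gTop Q k)).flip.isoPullback.hom) _).mp ?_
  show P ((isPullback_gChart hcov (gTop Q k)).flip.isoPullback.hom ≫
    pullback.snd (gπ hcov) (gChart Q (gTop Q k)))
  rw [IsPullback.isoPullback_hom_snd]
  exact IsZariskiLocalAtTarget.restrict (h k) ⊤

theorem isOpenMap_gπ : IsOpenMap (gπ hcov) := by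
  intro Ω hΩ
  rw [isOpen_iff_forall_mem_open]
  rintro _ ⟨x, hx, rfl⟩
  obtain ⟨k, hk⟩ := hcov x
  obtain ⟨w, rfl⟩ := (gTop Q k).range_inc.ge (mem_gTop hk)
  refine ⟨gChart Q (gTop Q k) '' ((gTop Q k).π '' ((gTop Q k).inc ⁻¹' Ω)), ?_,
    (gChart Q _).isOpenEmbedding.isOpenMap _ ?_, ⟨_, ⟨w, hx, rfl⟩, (gπ_apply hcov _ w).symm⟩⟩
  · rintro _ ⟨_, ⟨w', hw', rfl⟩, rfl⟩
    exact ⟨_, hw', gπ_apply hcov _ w'⟩
  · have hp : IsOpenMap ((Q k).p) := (Q k).openMap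
    have ho : IsOpen (((Q k).p ⁻¹ᵁ ⊤).ι '' ((gTop Q k).inc ⁻¹' Ω)) :=
      ((Q k).p ⁻¹ᵁ ⊤).ι.isOpenEmbedding.isOpenMap _ (hΩ.preimage (gTop Q k).inc.continuous)
    have e : (gTop Q k).π '' ((gTop Q k).inc ⁻¹' Ω) =
        (⊤ : (Q k).Y.Opens).ι ⁻¹' ((Q k).p '' (((Q k).p ⁻¹ᵁ ⊤).ι '' ((gTop Q k).inc ⁻¹' Ω))) := by
      ext c
      constructor
      · rintro ⟨a, ha, rfl⟩
        exact ⟨a.1, ⟨a, ha, rfl⟩, (morphismRestrict_base_coe _ _ _).symm⟩
      · rintro ⟨_, ⟨a, ha, rfl⟩, hc⟩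
        exact ⟨a, ha, Subtype.ext ((morphismRestrict_base_coe _ _ _).trans hc)⟩
    rw [e]
    exact (hp _ ho).preimage (⊤ : (Q k).Y.Opens).ι.continuous

theorem gπ_ext {X : Scheme.{u}} (g g' : gQuot Q ⟶ X) (h : gπ hcov ≫ g = gπ hcov ≫ g') : g = g' := by
  apply colimit.hom_ext
  intro i
  show gChart Q i ≫ g = gChart Q i ≫ g'
  apply i.hom_ext
  rw [← Category.assoc, ← Category.assoc, ← inc_gπ hcov i, Category.assoc, Category.assoc, h]

theorem exists_gπ_desc {X : Scheme.{u}} (f : G.U ⟶ X) (hf : G.t ≫ f = G.s ≫ f) :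
    ∃ g, gπ hcov ≫ g = f := by
  have hd : ∀ i : GIdx Q, ∃ g, i.π ≫ g = i.inc ≫ f := fun i => i.exists_desc _ fun T a b r ha hb => by
    rw [← Category.assoc, ← Category.assoc, ← ha, ← hb, Category.assoc, Category.assoc, hf]
  choose g hg using hd
  let c : Cocone (gdiagram Q) :=
    { pt := X
      ι := { app := g
             naturality := fun i j fij => by
               apply i.hom_ext
               show i.π ≫ GIdx.map (leOfHom fij : _) ≫ g j = i.π ≫ g i ≫ 𝟙 X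
               rw [π_map_assoc, hg, Category.comp_id, hg, lift_inc_assoc] } }
  refine ⟨colimit.desc _ c, Scheme.Cover.hom_ext (gCover hcov) _ _ fun k => ?_⟩
  show (gTop Q k).inc ≫ gπ hcov ≫ colimit.desc _ c = (gTop Q k).inc ≫ f
  rw [reassoc_of% inc_gπ hcov (gTop Q k)]
  exact (congrArg ((gTop Q k).π ≫ ·) (colimit.ι_desc c (gTop Q k))).trans (hg _)

/-- The glued quotient is a coequalizer. -/
def isColimit_gπ [Flat G.s] : IsColimit (Cofork.ofπ (gπ hcov) (gπ_condition hcov)) :=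
  Cofork.IsColimit.mk _ (fun c => (exists_gπ_desc hcov c.π c.condition).choose)
    (fun c => (exists_gπ_desc hcov c.π c.condition).choose_spec)
    fun c m hm => gπ_ext hcov _ _ (hm.trans (exists_gπ_desc hcov c.π c.condition).choose_spec.symm)

/-- Lifts of a pair of points identified in the glued quotient to one chart. -/
theorem exists_chart_lifts {T : Scheme.{u}} (a b : T ⟶ G.U) (hab : a ≫ gπ hcov = b ≫ gπ hcov) (k : κ) :
    ∃ a' b' : ((a ⁻¹ᵁ (gTop Q k).rng : T.Opens) : Scheme.{u}) ⟶ (W k : Scheme.{u}),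
      a' ≫ (W k).ι = (a ⁻¹ᵁ (gTop Q k).rng).ι ≫ a ∧ b' ≫ (W k).ι = (a ⁻¹ᵁ (gTop Q k).rng).ι ≫ b ∧
      a' ≫ (Q k).p = b' ≫ (Q k).p := by
  let i := gTop Q k
  let A := (a ⁻¹ᵁ i.rng).ι
  have ha : Set.range (A ≫ a) ⊆ Set.range i.inc := by
    rw [i.range_inc]; rintro _ ⟨p, rfl⟩; exact p.2
  have hb : Set.range (A ≫ b) ⊆ Set.range i.inc := by
    rw [i.range_inc]
    rintro _ ⟨p, rfl⟩
    show (A ≫ b) p ∈ i.rng
    refine (preimage_gChart hcov i).le (show gπ hcov ((A ≫ b) p) ∈ (gChart Q i).opensRange from ?_)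
    rw [← Scheme.Hom.comp_apply, Category.assoc, ← hab, Scheme.Hom.comp_apply, Scheme.Hom.comp_apply]
    exact (preimage_gChart hcov i).ge p.2
  let a₀ := IsOpenImmersion.lift i.inc _ ha
  let b₀ := IsOpenImmersion.lift i.inc _ hb
  have e₀ : a₀ ≫ i.π = b₀ ≫ i.π := by
    rw [← cancel_mono (gChart Q i), Category.assoc, Category.assoc, ← inc_gπ hcov i, ← Category.assoc, ← Category.assoc,
      IsOpenImmersion.lift_fac, IsOpenImmersion.lift_fac, Category.assoc, Category.assoc, hab]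
  refine ⟨a₀ ≫ ((Q k).p ⁻¹ᵁ ⊤).ι, b₀ ≫ ((Q k).p ⁻¹ᵁ ⊤).ι, ?_, ?_, ?_⟩
  · exact (Category.assoc _ _ _).trans (IsOpenImmersion.lift_fac i.inc _ ha)
  · exact (Category.assoc _ _ _).trans (IsOpenImmersion.lift_fac i.inc _ hb)
  · have e : a₀ ≫ ((Q k).p ∣_ ⊤) ≫ (⊤ : (Q k).Y.Opens).ι = b₀ ≫ ((Q k).p ∣_ ⊤) ≫ (⊤ : (Q k).Y.Opens).ι :=
      (Category.assoc _ _ _).symm.trans ((congrArg (· ≫ (⊤ : (Q k).Y.Opens).ι) e₀).trans (Category.assoc _ _ _))
    simp only [morphismRestrict_ι] at e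
    simpa only [Category.assoc] using e

theorem surjective_gπ_lift [Flat G.s] : Function.Surjective (pullback.lift G.t G.s (gπ_condition hcov)) := by
  intro z
  let P := pullback (gπ hcov) (gπ hcov)
  let a : P ⟶ G.U := pullback.fst _ _
  obtain ⟨k, hk⟩ := hcov (a z)
  obtain ⟨a', b', ha, hb, hp⟩ := exists_chart_lifts hcov a (pullback.snd _ _) pullback.condition k
  obtain ⟨T', π, r, ⟨q, hq⟩, ht, hs⟩ := (Q k).link a' b' hp ⟨z, mem_gTop hk⟩
  refine ⟨r q, ?_⟩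
  have e : r ≫ pullback.lift G.t G.s (gπ_condition hcov) = π ≫ (a ⁻¹ᵁ (gTop Q k).rng).ι := by
    apply pullback.hom_ext
    · rw [Category.assoc, pullback.lift_fst, ht, ha, Category.assoc]
    · rw [Category.assoc, pullback.lift_snd, hs, hb, Category.assoc]
  rw [← Scheme.Hom.comp_apply, e, Scheme.Hom.comp_apply, hq]
  rfl

theorem isPullback_gπ [Flat G.s] [hm : Mono G.j] : IsPullback G.t G.s (gπ hcov) (gπ hcov) := by
  let φ := pullback.lift G.t G.s (gπ_condition hcov)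
  haveI : Mono φ := ⟨fun {Z} g g' h => by
    apply (cancel_mono G.j).mp
    have ht := congrArg (· ≫ pullback.fst (gπ hcov) (gπ hcov)) h
    have hs := congrArg (· ≫ pullback.snd (gπ hcov) (gπ hcov)) h
    simp only [φ, Category.assoc, pullback.lift_fst, pullback.lift_snd] at ht hs
    apply pullback.hom_ext
    · simpa only [Grpd.GroupoidScheme.j, Category.assoc, pullback.lift_fst] using ht
    · simpa only [Grpd.GroupoidScheme.j, Category.assoc, pullback.lift_snd] using hs⟩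
  let P := pullback (gπ hcov) (gπ hcov)
  let a : P ⟶ G.U := pullback.fst _ _
  have hloc : ∀ k, ∃ r : ((a ⁻¹ᵁ (gTop Q k).rng : P.Opens) : Scheme.{u}) ⟶ G.R,
      r ≫ φ = (a ⁻¹ᵁ (gTop Q k).rng).ι := fun k => by
    obtain ⟨a', b', ha, hb, hp⟩ := exists_chart_lifts hcov a (pullback.snd _ _) pullback.condition k
    obtain ⟨r, ht, hs⟩ := (Q k).mono_link hm a' b' hp
    refine ⟨r, pullback.hom_ext ?_ ?_⟩
    · rw [Category.assoc, pullback.lift_fst, ht, ha]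
    · rw [Category.assoc, pullback.lift_snd, hs, hb]
  choose r hr using hloc
  let 𝒰 : P.OpenCover := Scheme.Cover.mkOfCovers (P := @IsOpenImmersion) κ
    (fun k => ((a ⁻¹ᵁ (gTop Q k).rng : P.Opens) : Scheme.{u})) (fun k => (a ⁻¹ᵁ (gTop Q k).rng).ι)
    (fun z => (hcov (a z)).elim fun k hk => ⟨k, ⟨z, mem_gTop hk⟩, rfl⟩) fun _ => inferInstance
  have hc : ∀ i j : κ, pullback.fst (𝒰.f i) (𝒰.f j) ≫ r i = pullback.snd (𝒰.f i) (𝒰.f j) ≫ r j := fun i j =>
    (cancel_mono φ).mp ((Category.assoc _ _ _).trans ((congrArg (_ ≫ ·) (hr i)).trans (pullback.condition.trans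
      ((congrArg (_ ≫ ·) (hr j)).symm.trans (Category.assoc _ _ _).symm))))
  let ψ := 𝒰.glueMorphisms r hc
  have hψ : ψ ≫ φ = 𝟙 _ := Scheme.Cover.hom_ext 𝒰 _ _ fun k =>
    (Category.assoc _ _ _).symm.trans ((congrArg (· ≫ φ) (𝒰.ι_glueMorphisms r hc k)).trans
      ((hr k).trans (Category.comp_id _).symm))
  have hφψ : φ ≫ ψ = 𝟙 _ := by
    rw [← cancel_mono φ, Category.assoc, hψ, Category.comp_id, Category.id_comp]
  exact IsPullback.of_iso_pullback ⟨gπ_condition hcov⟩ ⟨φ, ψ, hφψ, hψ⟩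
    (pullback.lift_fst _ _ _) (pullback.lift_snd _ _ _)

/-- Properties local at the source glue for maps out of the glued quotient. -/
theorem prop_gQuot_hom (hcov : GCovers Q) (P : MorphismProperty Scheme.{u}) [IsZariskiLocalAtSource P]
    {T : Scheme.{u}} (q : gQuot Q ⟶ T) (h : ∀ k, P (gChart Q (gTop Q k) ≫ q)) : P q :=
  IsZariskiLocalAtSource.of_openCover (gQuotCover hcov) h

/-- The comparison of a chart with the original quotient map. -/
theorem gTop_inc_gπ (k : κ) :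
    (W k).ι ≫ gπ hcov = (Q k).p ≫ (Scheme.topIso (Q k).Y).inv ≫ gChart Q (gTop Q k) := by
  have h := inc_gπ hcov (gTop Q k)
  have hp : ((Q k).p ⁻¹ᵁ ⊤).ι ≫ (Q k).p ≫ (Scheme.topIso (Q k).Y).inv = (Q k).p ∣_ ⊤ := by
    rw [← cancel_mono (⊤ : (Q k).Y.Opens).ι, morphismRestrict_ι]
    simp
  haveI : Surjective ((Q k).p ⁻¹ᵁ ⊤).ι := ⟨fun x => ⟨⟨x, trivial⟩, rfl⟩⟩
  haveI : IsIso ((Q k).p ⁻¹ᵁ ⊤).ι :=
    (isIso_iff_isOpenImmersion_and_surjective _).mpr ⟨inferInstance, inferInstance⟩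
  rw [← cancel_epi ((Q k).p ⁻¹ᵁ ⊤).ι, reassoc_of% hp]
  exact (Category.assoc _ _ _).symm.trans h

end GrothLib.QSecGen13
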